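import Cfsg.Agent.H83.ClassSize

set_option autoImplicit false

namespace Cfsg.Agent.H83

open Subgroup

variable {G : Type*} [Group G]

open Classical in
/-- Number of conjugacy classes with a property, as a sum of centralizer orders. -/
theorem card_classes_mul [Fintype G] (P : ConjClasses G → Prop) :
    Nat.card {C : ConjClasses G // P C} * Nat.card G =
      ∑ x ∈ Finset.univ.filter (fun x : G => P (ConjClasses.mk x)),
        Nat.card (centralizer ({x} : Set G)) := by
  have := Fintype.ofFinite (ConjClasses G)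
  rw [← Finset.sum_fiberwise_of_maps_to (g := ConjClasses.mk) (t := Finset.univ.filter P)
    (fun x hx => by simpa using hx)]
  rw [Nat.card_eq_fintype_card, Fintype.card_subtype, ← smul_eq_mul, ← Finset.sum_const]
  refine Finset.sum_congr rfl fun C hC => ?_
  obtain ⟨g, rfl⟩ := ConjClasses.mk_surjective C
  rw [Finset.sum_congr rfl (g := fun _ => Nat.card (centralizer ({g} : Set G)))]
  · rw [Finset.sum_const, smul_eq_mul, ← card_cent_mul_cs g, mul_comm, ← card_isConj,
      Nat.card_eq_fintype_card, Fintype.card_subtype]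
    congr 2
    ext y
    simp only [Finset.mem_filter, Finset.mem_univ, true_and] at hC ⊢
    rw [ConjClasses.mk_eq_mk_iff_isConj, isConj_comm]
    refine ⟨fun h => ⟨?_, h⟩, fun h => h.2⟩
    rwa [ConjClasses.mk_eq_mk_iff_isConj.mpr h]
  · intro y hy
    simp only [Finset.mem_filter, Finset.mem_univ, true_and] at hy
    obtain ⟨c, rfl⟩ := isConj_iff.mp (ConjClasses.mk_eq_mk_iff_isConj.mp hy.2)
    rw [card_cent_conj]

theorem card_conjClasses_mul [Fintype G] :
    Nat.card (ConjClasses G) * Nat.card G = ∑ x : G, Nat.card (centralizer ({x} : Set G)) := by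
  classical
  have := card_classes_mul (G := G) (fun _ => True)
  rw [Nat.card_congr (Equiv.subtypeUnivEquiv fun _ => trivial)] at this
  simpa using this

theorem card_le_index_mul_card_inf [Finite G] (H K : Subgroup G) :
    Nat.card H ≤ K.index * Nat.card (K ⊓ H : Subgroup G) := by
  rw [← H2.card_inf_mul_relIndex K H, mul_comm]
  apply Nat.mul_le_mul_right
  have := Subgroup.relIndex_le_of_le_right (H := K) (le_top : H ≤ ⊤)
    (by rw [Subgroup.relIndex_top_right]; exact index_ne_zero_of_finite)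
  rwa [Subgroup.relIndex_top_right] at this

theorem card_eq_card_map_mul {G' : Type*} [Group G'] (f : G →* G') (H : Subgroup G) :
    Nat.card H = Nat.card (H.map f) * Nat.card (f.ker ⊓ H : Subgroup G) := by
  rw [← H2.card_inf_mul_relIndex f.ker H, mul_comm, Subgroup.relIndex_ker]

theorem card_cent_le_quot [Finite G] (N : Subgroup G) [N.Normal] (x : G) :
    Nat.card (centralizer ({x} : Set G)) ≤ Nat.card (centralizer ({(x : G ⧸ N)} : Set (G ⧸ N))) *
      Nat.card (N ⊓ centralizer ({x} : Set G) : Subgroup G) := by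
  rw [card_eq_card_map_mul (QuotientGroup.mk' N), QuotientGroup.ker_mk']
  exact Nat.mul_le_mul_right _ (Subgroup.card_le_of_le (map_cent_le _ x))

theorem card_cent_subgroup (H : Subgroup G) (x : H) :
    Nat.card (centralizer ({x} : Set H)) =
      Nat.card (H ⊓ centralizer ({(x : G)} : Set G) : Subgroup G) := by
  rw [cent_subgroup, H2.card_subgroupOf, inf_comm]

theorem card_comap_mk' (N : Subgroup G) [N.Normal] (K : Subgroup (G ⧸ N)) :
    Nat.card (K.comap (QuotientGroup.mk' N)) = Nat.card N * Nat.card K :=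
  QuotientGroup.card_preimage_mk N (K : Set (G ⧸ N))

theorem card_cent_mul_card_fiber (N : Subgroup G) [hN : N.Normal] (g : G) :
    Nat.card (centralizer ({g} : Set G)) * Nat.card {n : N // IsConj g (g * n)} =
      Nat.card N * Nat.card (centralizer ({(g : G ⧸ N)} : Set (G ⧸ N))) := by
  set T := (centralizer ({(g : G ⧸ N)} : Set (G ⧸ N))).comap (QuotientGroup.mk' N) with hT
  have hmem : ∀ x, x ∈ T ↔ g⁻¹ * (x * g * x⁻¹) ∈ N := by
    intro x
    rw [hT, mem_comap, mem_cent', ← QuotientGroup.eq, eq_comm]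
    rfl
  have hg : g ∈ T := (hmem g).mpr (by simp)
  have hle : centralizer ({g} : Set G) ≤ T := fun x hx => (hmem x).mpr (by
    rw [mem_cent'.mp hx]; simp)
  rw [← card_comap_mk', ← hT, ← card_cent_mul_cs (⟨g, hg⟩ : T), card_cent_subgroup,
    inf_of_le_right hle, ← card_isConj]
  congr 1
  refine Nat.card_congr (Equiv.ofBijective (fun y => ⟨⟨g * y.1, ?_⟩, ?_⟩) ⟨?_, ?_⟩)
  · refine T.mul_mem hg ((hmem _).mpr ?_)
    have := N.mul_mem (hN.conj_mem _ y.1.2 g⁻¹) (N.inv_mem y.1.2)
    convert this using 1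
    group
  · obtain ⟨c, hc⟩ := isConj_iff.mp y.2
    refine isConj_iff.mpr ⟨⟨c, (hmem c).mpr ?_⟩, Subtype.ext hc⟩
    rw [hc]; simp
  · intro a b hab
    have : g * a.1 = g * b.1 := congrArg (fun z => z.1.1) hab
    exact Subtype.ext (Subtype.ext (mul_left_cancel this))
  · rintro ⟨y, hy⟩
    obtain ⟨c, rfl⟩ := isConj_iff.mp hy
    refine ⟨⟨⟨_, (hmem c).mp c.2⟩, isConj_iff.mpr ⟨c, by simp⟩⟩, ?_⟩
    ext; simp

end Cfsg.Agent.H83
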