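/-
An involution of `A_m`, `m ≥ 6`, lies in the derived group of its centralizer.
-/
import Mathlib

set_option autoImplicit false

namespace Cfsg.Agent.H83

open Equiv Equiv.Perm Subgroup
open scoped commutatorElement

variable {α : Type*} [Fintype α] [DecidableEq α]

theorem alt_exists_pair (h6 : 6 ≤ Fintype.card α) {s : Perm α} (hs : ∀ x, s (s x) = x) (a b : α) :
    ∃ c d : α, c ≠ d ∧ c ∉ ({a, s a, b, s b} : Finset α) ∧ d ∉ ({a, s a, b, s b} : Finset α) ∧
      s * swap c d * s⁻¹ = swap c d := by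
  have key : ∀ c, c ∉ ({a, s a, b, s b} : Finset α) → s c ≠ c →
      ∃ c d : α, c ≠ d ∧ c ∉ ({a, s a, b, s b} : Finset α) ∧ d ∉ ({a, s a, b, s b} : Finset α) ∧
      s * swap c d * s⁻¹ = swap c d := by
    intro c hc ne
    refine ⟨c, s c, ne.symm, hc, fun h => hc ?_, by rw [← swap_apply_apply, hs, swap_comm]⟩
    simp only [Finset.mem_insert, Finset.mem_singleton] at h ⊢
    rcases h with h | h | h | h
    · exact Or.inr (Or.inl (by rw [← h, hs]))
    · exact Or.inl (s.injective h)
    · exact Or.inr (Or.inr (Or.inr (by rw [← h, hs])))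
    · exact Or.inr (Or.inr (Or.inl (s.injective h)))
  have h4 : ({a, s a, b, s b} : Finset α).card ≤ 4 := Finset.card_le_four
  obtain ⟨c, -, hc⟩ := Finset.exists_mem_notMem_of_card_lt_card
    (s := ({a, s a, b, s b} : Finset α)) (t := Finset.univ) (by rw [Finset.card_univ]; omega)
  by_cases h1 : s c = c
  swap
  · exact key c hc h1
  have h5 := Finset.card_insert_le c ({a, s a, b, s b} : Finset α)
  obtain ⟨d, -, hd⟩ := Finset.exists_mem_notMem_of_card_lt_card
    (s := insert c ({a, s a, b, s b} : Finset α)) (t := Finset.univ)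
    (by rw [Finset.card_univ]; omega)
  rw [Finset.mem_insert, not_or] at hd
  by_cases h2 : s d = d
  · exact ⟨c, d, Ne.symm hd.1, hc, hd.2, by rw [← swap_apply_apply, h1, h2]⟩
  · exact key d hd.2 h2

theorem alt_pair_mem (h6 : 6 ≤ Fintype.card α) {s : Perm α} (hs : ∀ x, s (s x) = x) {a b : α}
    (ha : s a ≠ a) (hb : s b ≠ b) (h1 : b ≠ a) (h2 : b ≠ s a) :
    swap a (s a) * swap b (s b) ∈
      ⁅alternatingGroup α ⊓ centralizer {s}, alternatingGroup α ⊓ centralizer {s}⁆ := by
  obtain ⟨c, d, ne, hc, hd, e⟩ := alt_exists_pair h6 hs a b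
  simp only [Finset.mem_insert, Finset.mem_singleton, not_or] at hc hd
  have h3 : s b ≠ a := fun h => h2 (by rw [← h, hs])
  have h4 : s b ≠ s a := fun h => h1 (s.injective h)
  have cent : ∀ x : Perm α, s * x * s⁻¹ = x → x ∈ centralizer ({s} : Set (Perm α)) := fun x h =>
    mem_centralizer_singleton_iff.2 (mul_inv_eq_iff_eq_mul.1 h).symm
  have hx : swap a (s a) * swap c d ∈ alternatingGroup α ⊓ centralizer {s} := by
    refine ⟨by simp [mem_alternatingGroup, sign_swap ha.symm, sign_swap ne], cent _ ?_⟩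
    rw [← conj_mul, e, ← swap_apply_apply, hs, swap_comm]
  have hp : swap a b * swap (s a) (s b) ∈ alternatingGroup α ⊓ centralizer {s} := by
    refine ⟨by simp [mem_alternatingGroup, sign_swap h1.symm, sign_swap h4.symm], cent _ ?_⟩
    rw [← conj_mul, ← swap_apply_apply, ← swap_apply_apply, hs, hs, ← mul_inv_eq_iff_eq_mul,
      ← swap_apply_apply, swap_apply_of_ne_of_ne ha.symm h3.symm,
      swap_apply_of_ne_of_ne h2 hb.symm]
  have h5 := commutator_mem_commutator hx hp
  have e2 : ⁅swap a (s a) * swap c d, swap a b * swap (s a) (s b)⁆ =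
      swap a (s a) * swap b (s b) := by
    set π := swap a b * swap (s a) (s b) with hπ
    have p1 : π a = b := by simp [hπ, swap_apply_of_ne_of_ne ha.symm h3.symm]
    have p2 : π (s a) = s b := by simp [hπ, swap_apply_of_ne_of_ne h3 hb]
    have p3 : π c = c := by
      simp [hπ, swap_apply_of_ne_of_ne hc.2.1 hc.2.2.2, swap_apply_of_ne_of_ne hc.1 hc.2.2.1]
    have p4 : π d = d := by
      simp [hπ, swap_apply_of_ne_of_ne hd.2.1 hd.2.2.2, swap_apply_of_ne_of_ne hd.1 hd.2.2.1]
    calc ⁅swap a (s a) * swap c d, π⁆ =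
        swap a (s a) * swap c d * (π * swap c d * π⁻¹) * (π * swap a (s a) * π⁻¹) := by
          rw [commutatorElement_def, mul_inv_rev, swap_inv, swap_inv]; group
      _ = _ := by
          rw [← swap_apply_apply, ← swap_apply_apply, p1, p2, p3, p4, mul_assoc (swap a (s a)),
            swap_mul_self, mul_one]
  rwa [e2] at h5

theorem alt_step {s u : Perm α} (hs : ∀ x, s (s x) = x) (hu : ∀ x, u x = x ∨ u x = s x) {a : α}
    (ha : u a ≠ a) : s a ≠ a ∧ (∀ x, (swap a (s a) * u) x = x ∨ (swap a (s a) * u) x = s x) ∧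
      (swap a (s a) * u).support.card < u.support.card ∧
      ∀ b, (swap a (s a) * u) b ≠ b → b ≠ a ∧ b ≠ s a := by
  have h1 : u a = s a := (hu a).resolve_left ha
  have h2 : s a ≠ a := h1 ▸ ha
  have h3 : u (s a) = a := by
    rcases hu (s a) with h | h
    · exact absurd (u.injective (h.trans h1.symm)) h2
    · rw [h, hs]
  refine ⟨h2, fun x => ?_, ?_, fun b hb => ⟨?_, ?_⟩⟩
  · by_cases e1 : x = a
    · left; simp [e1, h1]
    by_cases e2 : x = s a
    · left; simp [e2, h3]
    rw [mul_apply, swap_apply_of_ne_of_ne (fun h => e2 (u.injective (h.trans h3.symm)))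
      (fun h => e1 (u.injective (h.trans h1.symm)))]
    exact hu x
  · rw [← h1]; exact card_support_swap_mul ha
  · rintro rfl; simp [h1] at hb
  · rintro rfl; simp [h3] at hb

theorem alt_mem_commutator (h6 : 6 ≤ Fintype.card α) {s : Perm α} (hs : s * s = 1)
    (he : s ∈ alternatingGroup α) :
    s ∈ ⁅alternatingGroup α ⊓ centralizer {s}, alternatingGroup α ⊓ centralizer {s}⁆ := by
  have hs' : ∀ x, s (s x) = x := fun x => by rw [← mul_apply, hs, one_apply]
  suffices H : ∀ (n : ℕ) (u : Perm α), u.support.card = n → (∀ x, u x = x ∨ u x = s x) →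
      sign u = 1 →
      u ∈ ⁅alternatingGroup α ⊓ centralizer {s}, alternatingGroup α ⊓ centralizer {s}⁆ from
    H _ s rfl (fun _ => Or.inr rfl) he
  intro n
  induction n using Nat.strong_induction_on with
  | _ n ih =>
  intro u hn hu hsg
  by_cases h1 : u = 1
  · rw [h1]; exact one_mem _
  obtain ⟨a, ha⟩ : ∃ a, u a ≠ a := by
    by_contra h
    push Not at h
    exact h1 (Equiv.ext h)
  obtain ⟨a1, a2, a3, a4⟩ := alt_step hs' hu ha
  obtain ⟨b, hb⟩ : ∃ b, (swap a (s a) * u) b ≠ b := by
    by_contra h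
    push Not at h
    have : sign (swap a (s a) * u) = 1 := by
      rw [show swap a (s a) * u = 1 from Equiv.ext h, map_one]
    rw [map_mul, sign_swap a1.symm, hsg] at this
    simp at this
  obtain ⟨b1, b2, b3, -⟩ := alt_step hs' a2 hb
  have h2 := ih _ (hn ▸ b3.trans a3) _ rfl b2
    (by simp [sign_swap a1.symm, sign_swap b1.symm, hsg])
  have h3 := mul_mem (alt_pair_mem h6 hs' a1 b1 (a4 b hb).1 (a4 b hb).2) h2
  rwa [mul_assoc, swap_mul_self_mul, swap_mul_self_mul] at h3

end Cfsg.Agent.H83
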