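import Cfsg.Agent.H83.StdB

/-! Standard subgroups `2² · L₃(4)`: the table of a Sylow 2-subgroup and its automorphisms. -/

set_option autoImplicit false
set_option maxRecDepth 100000

namespace Cfsg.Agent.ON.He

open H14 H56 WD Function Subgroup St

def CC : ℕ := nat_lit 0xe0d13203e4d53607e8d93a0becdd3e0fe1d03302e5d43706e9d83b0aeddc3f0ee2d33001e6d73405eadb3809eedf3c0de3d23100e7d63504ebda3908efde3d0c54f5a60750f1a2035cfdae0f58f9aa0b55f4a70651f0a3025dfcaf0e59f8ab0a56f7a40552f3a0015effac0d5afba80957f6a50453f2a1005ffead0c5bfaa908b8299a0bbc2d9e0fb0219203b4259607b9289b0abd2c9f0eb1209302b5249706ba2b9809be2f9c0db2239001b6279405bb2a9908bf2e9d0cb3229100b72695040c0d0e0f08090a0b04050607000102030d0c0f0e09080b0a05040706010003020e0f0c0d0a0b080906070405020300010f0e0d0c0b0a09080706050403020100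
def TH : ℕ := nat_lit 0xb9bbbab8b5b7b6b4bdbfbebcb1b3b2b0a9abaaa8a5a7a6a4adafaeaca1a3a2a0595b5a58555756545d5f5e5c51535250494b4a48454746444d4f4e4c41434240393b3a38353736343d3f3e3c31333230292b2a28252726242d2f2e2c21232220d9dbdad8d5d7d6d4dddfdedcd1d3d2d0c9cbcac8c5c7c6c4cdcfceccc1c3c2c0797b7a78757776747d7f7e7c71737270696b6a68656766646d6f6e6c61636260999b9a98959796949d9f9e9c91939290898b8a88858786848d8f8e8c81838280f9fbfaf8f5f7f6f4fdfffefcf1f3f2f0e9ebeae8e5e7e6e4edefeeece1e3e2e0191b1a18151716141d1f1e1c11131210090b0a08050706040d0f0e0c01030200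
def FR : ℕ := nat_lit 0x2aab69e82eaf6dec26a765e422a361e03abb79f83ebf7dfc36b775f432b371f09a1bd9589e1fdd5c9617d5549213d1508a0bc9488e0fcd4c8607c5448203c140ea6ba928ee6fad2ce667a524e263a120fa7bb938fe7fbd3cf677b534f273b1305adb19985edf1d9c56d7159452d311904acb09884ecf0d8c46c7058442c30180aa2be968ae2fed6ca627e564a223e160ba3bf978be3ffd7cb637f574b233f1701a9b59d81e9f5ddc169755d4129351d00a8b49c80e8f4dcc068745c4028341c06aeb29a86eef2dac66e725a462e321a07afb39b87eff3dbc76f735b472f331b0da5b9918de5f9d1cd6579514d2539110ca4b8908ce4f8d0cc6478504c2438100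
def GR : ℕ := nat_lit 0x9feb4733ee0a9672cd99e5b1bc7834f08ffb5723fe1a8662dd89f5a1ac6824e03f4be7934eaa36d26d3945111cd894502f5bf7835eba26c27d2955010cc884405f2b87f32eca56b20d5925717cb8f4304f3b97e33eda46a21d4935616ca8e420ff8b27538e6af612adf985d1dc185490ef9b37439e7ae602bde995c1cc0844801f6bc7b36e8a16f24d1965313cf8b4700f7bd7a37e9a06e25d0975212ce8a460bfcb6713ce2ab652edb9c5919c5814d0afdb7703de3aa642fda9d5818c4804c0dfab0773ae4ad6328dd9a5f1fc3874b0cfbb1763be5ac6229dc9b5e1ec2864a07f0ba7d30eea76922d7905515c98d4106f1bb7c31efa66823d6915414c88c400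
def HK : ℕ := nat_lit 0xda591b98d6551794de5d1f9cd2511390ba397bf8b63577f4be3d7ffcb23173f0ea692ba8e66527a4ee6d2face26123a08a094bc8860547c48e0d4fcc820143c09a195bd8961557d49e1d5fdc921153d0fa793bb8f67537b4fe7d3fbcf27133b0aa296be8a62567e4ae2d6feca22163e0ca490b88c6450784ce4d0f8cc24103805ad99b1856d597145edd9f1c52d193103ab9fb7836b5f7743ebdff7c32b1f3706ae9ab2866e5a7246eedaf2c62e1a3200a89cb480685c7440e8dcf4c0281c3401a99db581695d7541e9ddf5c1291d3507af9bb3876f5b7347efdbf3c72f1b3302aa9eb6826a5e7642eadef6c22a1e3604ac98b0846c587044ecd8f0c42c18300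
def OM : ℕ := nat_lit 0xbe8f6d5cba8b6958b6876554b28361503e0feddc3a0be9d83607e5d43203e1d00e3fddec0a3bd9e80637d5e40233d1e08ebf5d6c8abb596886b7556482b35160ceff1d2ccafb1928c6f71524c2f311204e7f9dac4a7b99a8467795a4427391a07e4fad9c7a4ba9987647a5947243a190fecf2d1cfacb2918f6c72514f2c32110ae9f7d4caa9b7948a6977544a29371402e1ffdcc2a1bf9c82617f5c42213f1c01e2fcdfc1a2bc9f81627c5f41223c1f09eaf4d7c9aab497896a7457492a34170deef0d3cdaeb0938d6e70534d2e301305e6f8dbc5a6b89b8566785b4526381b06e5fbd8c6a5bb9886657b5846253b180eedf3d0ceadb3908e6d73504e2d33100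
def DS : ℕ := nat_lit 0x4567565665475658654354344545565465455436652776362567345625671678636554546563747465455454636574564545345445635654636754566367727845273436254736386367545665477458636554544565547665275436652776186563545463657474256734564565367645675456636754786561565265617670

noncomputable instance (priority := high) decAll (n : ℕ) (P : ℕ → Prop) [DecidablePred P] :
    Decidable (∀ i < n, P i) :=
  decidable_of_iff ((allN n fun i => decide (P i)) = true) (by simp [allN_iff])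

noncomputable instance (priority := high) decEx (n : ℕ) (P : ℕ → Prop) [DecidablePred P] :
    Decidable (∃ i < n, P i) :=
  decidable_of_iff ((anyN n fun i => decide (P i)) = true) (by simp [anyN_iff])

/-- the multiplication -/
noncomputable def mm (p q : ℕ) : ℕ := force p fun p => force q fun q =>
  Nat.xor (Nat.land (Nat.xor p q) 240) (app 8 256 CC (Nat.add (Nat.mul 16 (Nat.mod p 16))
    (Nat.mod q 16)))

/-- the inverse -/
noncomputable def iv (p : ℕ) : ℕ := force p fun p => mm p (mm p p)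

/-- an inner automorphism -/
noncomputable def inn (p q : ℕ) : ℕ := force p fun p => mm (mm p q) (iv p)

/-- iterated application of a table -/
noncomputable def it (X j q : ℕ) : ℕ := Nat.rec q (fun _ r => app 8 256 X r) j

/-- the twelve automorphisms -/
noncomputable def Ak (i q : ℕ) : ℕ := it TH (i % 3) (it FR (i / 3 % 2) (it GR (i / 6) q))

/-- the automorphisms induced by the normaliser of the component -/
noncomputable def cf (j p i q : ℕ) : ℕ := it HK j (inn p (Ak i q))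

/-- four further automorphisms -/
noncomputable def Om (k q : ℕ) : ℕ := app 8 256 OM (Ak (3 * k) q)

abbrev GS : List ℕ := [65, 195, 4, 12]
abbrev VL : List ℕ := [64, 128, 192]
abbrev YL : List ℕ := [16, 96, 112]

/-- a map respecting the multiplication -/
def IsAut (c : ℕ → ℕ) : Prop :=
  c 0 = 0 ∧ ∀ q < 256, c q < 256 ∧ ∀ a ∈ GS, c (mm a q) = mm (c a) (c q)

noncomputable instance decAut (c : ℕ → ℕ) : Decidable (IsAut c) := by unfold IsAut; infer_instance

theorem mm_lt {p q : ℕ} (hp : p < 256) (hq : q < 256) : mm p q < 256 := by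
  rw [mm, force_eq, force_eq]
  exact Nat.xor_lt_two_pow (n := 8) (lt_of_le_of_lt Nat.and_le_right (by decide))
    (Nat.mod_lt _ (by decide))

theorem iv_lt {p : ℕ} (hp : p < 256) : iv p < 256 := by
  rw [iv, force_eq]; exact mm_lt hp (mm_lt hp hp)

theorem inn_lt {p q : ℕ} (hp : p < 256) (hq : q < 256) : inn p q < 256 := by
  rw [inn, force_eq]; exact mm_lt (mm_lt hp hq) (iv_lt hp)

theorem it_lt {X j q : ℕ} (hq : q < 256) : it X j q < 256 := by
  cases j
  exacts [hq, Nat.mod_lt _ (by decide)]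

theorem Ak_lt {i q : ℕ} (hq : q < 256) : Ak i q < 256 := it_lt (it_lt (it_lt hq))
theorem cf_lt {j p i q : ℕ} (hp : p < 256) (hq : q < 256) : cf j p i q < 256 :=
  it_lt (inn_lt hp (Ak_lt hq))
theorem Om_lt (k q : ℕ) : Om k q < 256 := Nat.mod_lt _ (by decide)

theorem gen_ind {P : ℕ → Prop} (h0 : P 0) (hs : ∀ a ∈ GS, ∀ q < 256, P q → P (mm a q)) :
    ∀ q < 256, P q := by
  have h : ∀ q < 256, q = 0 ∨ ∃ a ∈ GS, app 4 16 DS (mm a q) < app 4 16 DS q ∧ mm a (mm a q) = q := by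
    decide +kernel
  intro q hq
  induction' e : app 4 16 DS q using Nat.strong_induction_on with n ih generalizing q
  rcases h q hq with rfl | ⟨a, ha, l, f⟩
  · exact h0
  · have l' := mm_lt (p := a) (by simp at ha; omega) hq
    exact f ▸ hs a ha _ l' (ih _ (e ▸ l) _ l' rfl)

/-- the code of a preimage in `W` -/
def lf (p : ℕ) : ℕ := p % 64 + 64 * (p / 64 % 2) + 256 * (p / 128)

abbrev ZS : List ℕ := [0, 128, 512, 640]

def hw : List ℕ := [Q, Q, Q, Q, Q, P, Q, P, Q, Q, Q, P, Q]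
def aw' : List ℕ := [Q, P, Q, Q, P, Q]
def bw' : List ℕ := [P, P, Q, P, P, P, Q, Q, P, Q]

/-- two four-groups outside the centre -/
def XL (b : ℕ) : List ℕ := bif b == 0 then [130, 195, 65] else [8, 12, 4]
def DL (b : ℕ) : List ℕ := VL ++ YL ++ XL b
def wf (b p : ℕ) : ℕ := (((DL b).zip (VL ++ XL b ++ YL)).lookup p).getD 0

/-- the word `w` conjugates `p` to `q` -/
noncomputable def wB (w : List ℕ) (p q : ℕ) : Bool :=
  anyL ZS fun z => eqB 10 1024 bsW (w ++ wE (lf p)) (wE (lf q + z) ++ w)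

theorem aut_gr {J : ℕ} (hJ : J ∈ [6, 7, 8]) (w : W) : aut J (aut J w) = w := by
  have h : (allL [6, 7, 8] fun J => force (pi J) fun X => force (inv 10 1024 714 X) fun Y =>
      allL [P, Q] fun R => eqB 10 1024 bsW [X, X, R, Y, Y] [R]) = true := by decide +kernel
  simp only [allL_iff, force_eq] at h
  have key : ∀ R ∈ [P, Q], aut J (aut J (elt EW W R)) = elt EW W R := fun R hR => by
    have e : [EW.perm (pi J), EW.perm (pi J), (elt EW W R : Equiv.Perm (Fin 714)),
        (EW.perm (pi J))⁻¹, (EW.perm (pi J))⁻¹].prod = aut J (aut J (elt EW W R)) := by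
      simp [coe_aut, mul_assoc]
    have := prod_eq_iff chainW (e ▸ SetLike.coe_mem _)
      (l2 := [(elt EW W R : Equiv.Perm (Fin 714))]) (by simp)
    simp only [List.map_cons, List.map_nil, EW.pk_inv, (pi_spec J).1,
      pk_elt (inG_LW R (by simp only [LW]; grind)), e, List.prod_singleton] at this
    exact Subtype.ext (this.1 (h J hJ R hR))
  exact le_of_gens (H := ((aut J).toMonoidHom.comp (aut J).toMonoidHom).eqLocus (MonoidHom.id _))
    (key _ (by simp)) (key _ (by simp)) w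

variable {G : Type*} [Group G]

/-- the element with number `p` -/
noncomputable def tk (η : W →* G) (p : ℕ) : G :=
  η (ι (p % 64)) * (η Z1 ^ (p / 64) * η Z2 ^ (p / 128))

/-- `g` conjugates `p` to `q` -/
def Cn (η : W →* G) (g : G) (p q : ℕ) : Prop := g * tk η p = tk η q * g

/-- `g` acts as the table `c` -/
def AT (η : W →* G) (g : G) (c : ℕ → ℕ) : Prop := ∀ q < 256, Cn η g q (c q)

/-- the element of order three -/
noncomputable def hh (η : W →* G) : G := η (wv hw)

structure Ctx (η : W →* G) : Prop where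
  z1 : η Z1 ^ 2 = 1
  z2 : η Z2 ^ 2 = 1
  zi : ∀ a b : ℕ, η Z1 ^ a * η Z2 ^ b = 1 → a % 2 = 0 ∧ b % 2 = 0
  cen : ∀ w, InK η (η w) → σ w = 1
  out : ∀ n ∈ normalizer (η.range : Set G), ∃ i < 12, ∃ v x, Act η i x ∧ n = η v * x
  ti : ∀ η', Cj η η' → ∀ k, InK η k → InK η' k → k * k = 1 → k = 1 ∨ η'.range = η.range

variable {η η' : W →* G} {g n x : G} {p q r : ℕ} {c d : ℕ → ℕ}

theorem tk_eq (p : ℕ) : tk η p = η (ι (p % 64) * (Z1 ^ (p / 64) * Z2 ^ (p / 128))) := by simp [tk]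
theorem tk_mem (p : ℕ) : tk η p ∈ η.range := ⟨_, (tk_eq p).symm⟩
theorem tk_zero : tk η 0 = 1 := by simp [tk, ι_zero]
theorem tk_conj (h : ∀ w, η' w = g * η w * g⁻¹) (p : ℕ) : tk η' p = g * tk η p * g⁻¹ := by
  rw [tk_eq, tk_eq, h]
theorem tk_cj (g : G) (p : ℕ) : tk (cj g η) p = g * tk η p * g⁻¹ := tk_conj (fun _ => rfl) p
theorem inK_tk (h : p % 64 = 0) : InK η (tk η p) :=
  tk_eq (η := η) p ▸ inK_of_σ (by simp [h, ι_zero, σ_Z.1, σ_Z.2])
theorem _root_.Cfsg.Agent.ON.St.InK.tk {k : G} (h : InK η k) (p : ℕ) : Commute k (tk η p) :=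
  h.comm (tk_mem p)
theorem hh_mem : hh η ∈ η.range := ⟨_, rfl⟩
theorem hh_cube : hh η ^ 3 = 1 := by
  rw [hh, ← map_pow, wv_pow (by simp [hw, LW]) 3 (by decide +kernel), map_one]

theorem Cn.conj (h : Cn η g p q) : g * tk η p * g⁻¹ = tk η q := mul_inv_eq_iff_eq_mul.2 h
theorem cn_iff : Cn η g p q ↔ g * tk η p * g⁻¹ = tk η q := mul_inv_eq_iff_eq_mul.symm
theorem Cn.mul (h : Cn η g q r) (h' : Cn η n p q) : Cn η (g * n) p r := by
  rw [Cn, mul_assoc, h', ← mul_assoc, h, mul_assoc]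
theorem Cn.inv (h : Cn η g p q) : Cn η g⁻¹ q p := by
  rw [Cn, ← h.conj]; group
theorem cn_self : Cn η g p p ↔ Commute g (tk η p) := Iff.rfl
theorem AT.mul (h : AT η g c) (h' : AT η n d) (l : ∀ q < 256, d q < 256) :
    AT η (g * n) fun q => c (d q) := fun q hq => (h _ (l q hq)).mul (h' q hq)
theorem AT.congr (h : AT η g c) (e : ∀ q < 256, c q = d q) : AT η g d :=
  fun q hq => e q hq ▸ h q hq
theorem AT.pow {X : ℕ} (h : AT η g (app 8 256 X)) (j : ℕ) : AT η (g ^ j) (it X j) := by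
  induction j with
  | zero => exact fun q _ => by rw [pow_zero]; exact Commute.one_left _
  | succ j ih => exact pow_succ' g j ▸ h.mul ih fun q hq => it_lt hq

namespace Ctx

variable (h : Ctx η)
include h

theorem zz {a b c d : ℕ} (h1 : a % 2 = c % 2) (h2 : b % 2 = d % 2) :
    η Z1 ^ a * η Z2 ^ b = η Z1 ^ c * η Z2 ^ d := by
  rw [pow_eq_pow_mod a h.z1, pow_eq_pow_mod b h.z2, h1, h2, ← pow_eq_pow_mod c h.z1,
    ← pow_eq_pow_mod d h.z2]

theorem lift {z : ℕ} (hp : p < 256) (hz : z ∈ ZS) : η (wv (wE (lf p + z))) = tk η p := by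
  simp only [List.mem_cons, List.not_mem_nil, or_false] at hz
  rw [wv_wE, map_mul, map_mul, map_pow, map_pow, tk, show (lf p + z) % 64 = p % 64 by
    unfold lf; omega, h.zz (c := p / 64) (d := p / 128) (by unfold lf; omega) (by unfold lf; omega)]

theorem mul (hp : p < 256) (hq : q < 256) : tk η p * tk η q = tk η (mm p q) := by
  have e : (force UT fun U => allN 64 fun u => allN 64 fun v => force (app 10 1024 U (64 * u + v))
      fun e => allN 4 fun a => allN 4 fun b => force (mm (u + 64 * a) (v + 64 * b)) fun m =>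
        Nat.beq (m % 64) (e % 64) && Nat.beq (m / 64 % 2) ((e / 64 + a + b) % 2) &&
          Nat.beq (m / 128 % 2) ((e / 256 + a / 2 + b / 2) % 2)) = true := by decide +kernel
  simp only [force_eq, allN_iff, Bool.and_eq_true, beq_iff] at e
  obtain ⟨⟨e1, e2⟩, e3⟩ := e (p % 64) (by omega) (q % 64) (by omega) (p / 64) (by omega) (q / 64)
    (by omega)
  rw [Nat.mod_add_div, Nat.mod_add_div] at e1 e2 e3
  have c1 := inK_of_σ (η := η) σ_Z.1
  have c2 := inK_of_σ (η := η) σ_Z.2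
  have c : ∀ a b c d : ℕ, η Z1 ^ a * η Z2 ^ b * (η Z1 ^ c * η Z2 ^ d) =
      η Z1 ^ (a + c) * η Z2 ^ (b + d) := fun a b c d => by
    rw [((c1 Z2).pow_pow c b).symm.mul_mul_mul_comm, pow_add, pow_add]
  rw [tk, tk, (((c1.pow _).mul (c2.pow _)) _).mul_mul_mul_comm, ← map_mul,
    ι_mul (Nat.mod_lt _ (by decide)) (Nat.mod_lt _ (by decide)), wv_wE, map_mul, map_mul, map_pow,
    map_pow, c, mul_assoc, c, tk, e1]
  exact congrArg _ (h.zz (by omega) (by omega))

theorem of_gens (a : IsAut c) (e : ∀ q ∈ GS, Cn η g q (c q)) : AT η g c := by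
  refine gen_ind (by rw [a.1, Cn, tk_zero, mul_one, one_mul]) fun b hb q hq f => ?_
  have l : b < 256 := by simp at hb; omega
  rw [Cn, (a.2 q hq).2 b hb, ← h.mul l hq, ← h.mul (a.2 b l).1 (a.2 q hq).1, ← mul_assoc, e b hb,
    mul_assoc, f, mul_assoc]

theorem of_wB {w : List ℕ} (hw : w ⊆ LW) (hp : p < 256) (hq : q < 256) (e : wB w p q = true) :
    Cn η (η (wv w)) p q := by
  obtain ⟨z, hz, e⟩ := anyL_iff.1 e
  rw [wv_eq (List.append_subset.2 ⟨hw, wE_sub _⟩) (List.append_subset.2 ⟨wE_sub _, hw⟩), wv_append,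
    wv_append] at e
  rw [Cn, ← h.lift hp (z := 0) (by simp), ← h.lift hq hz, ← map_mul, ← map_mul, ← e, add_zero]

theorem at_h (j : ℕ) : AT η (hh η ^ j) (it HK j) :=
  AT.pow (h.of_gens (by decide +kernel) fun q hq => h.of_wB (by simp [hw, LW])
    (by simp at hq; omega) (Nat.mod_lt _ (by decide))
    (allL_iff.1 (show allL GS (fun q => wB hw q (app 8 256 HK q)) = true by decide +kernel) q hq)) j

theorem act {i : ℕ} (hi : i < 12) (hx : Act η i x) : AT η x (Ak i) := by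
  have e : (allN 12 fun i => force (pi i) fun X => force (inv 10 1024 714 X) fun Y =>
    allL GS fun q => anyL ZS fun z => autB X Y (wE (lf q)) (wE (lf (Ak i q) + z))) = true := by
    decide +kernel
  simp only [allN_iff, allL_iff, anyL_iff, force_eq, autB_iff (wE_sub _) (wE_sub _)] at e
  refine h.of_gens ((by decide +kernel : ∀ i < 12, IsAut (Ak i)) i hi) fun q hq => ?_
  obtain ⟨z, hz, e⟩ := e i hi q hq
  have l : q < 256 := by simp at hq; omega
  rw [Cn, ← h.lift l (z := 0) (by simp), ← h.lift (Ak_lt l) hz, ← e, add_zero, hx]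

/-- two elements interchanging four-groups -/
theorem weyl {b : ℕ} (hb : b < 2) : ∃ n ∈ η.range, ∀ p ∈ DL b, Cn η n p (wf b p) := by
  have e := (by decide +kernel : ∀ b < 2, ∀ p ∈ DL b, p < 256 ∧ wf b p < 256 ∧
    wB (bif b == 0 then aw' else bw') p (wf b p) = true) b hb
  exact ⟨_, ⟨_, rfl⟩, fun p hp => h.of_wB (by cases b == 0 <;> simp [aw', bw', LW]) (e p hp).1
    (e p hp).2.1 (e p hp).2.2⟩

theorem mod_of_σ {k : G} (hk : InK η k) (e : tk η p = tk η q * k) : p % 64 = q % 64 := by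
  refine ι_inj (Nat.mod_lt _ (by decide)) (Nat.mod_lt _ (by decide)) ?_
  have := h.cen ((ι (q % 64) * (Z1 ^ (q / 64) * Z2 ^ (q / 128)))⁻¹ *
    (ι (p % 64) * (Z1 ^ (p / 64) * Z2 ^ (p / 128))))
    (by rwa [map_mul, map_inv, ← tk_eq, ← tk_eq, e, inv_mul_cancel_left])
  rw [map_mul, map_inv, inv_mul_eq_one] at this
  simpa [σ_Z.1, σ_Z.2] using this.symm

theorem mod_of_inK (hk : InK η (tk η p)) : p % 64 = 0 :=
  h.mod_of_σ (q := 0) hk (by rw [tk_zero, one_mul])

theorem inj (hp : p < 256) (hq : q < 256) : tk η p = tk η q ↔ p = q := by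
  refine ⟨fun e => ?_, fun e => e ▸ rfl⟩
  have h1 := h.mod_of_σ .one (e.trans (mul_one _).symm)
  rw [tk, tk, h1, mul_right_inj] at e
  have := h.zi (p / 64 + q / 64) (p / 128 + q / 128) (by
    rw [pow_add, pow_add, ((inK_of_σ (η := η) σ_Z.1 Z2).pow_pow _ _).mul_mul_mul_comm, e,
      ((inK_of_σ (η := η) σ_Z.1 Z2).pow_pow _ _).symm.mul_mul_mul_comm, ← pow_add, ← pow_add,
      h.zz (c := 0) (d := 0) (by omega) (by omega)]
    simp)
  omega

theorem of_σ {w : W} {u : ℕ} (hu : u < 64) (e : σ w = σ (ι u)) :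
    ∃ p < 256, p % 64 = u ∧ η w = tk η p := by
  obtain ⟨i, -, j, -, e'⟩ := ker_eq (w := (ι u)⁻¹ * w) (by simp [e])
  refine ⟨u + 64 * (i % 2) + 128 * (j % 2), by omega, by omega, ?_⟩
  rw [inv_mul_eq_iff_eq_mul.1 e', tk, map_mul, map_mul, map_pow, map_pow,
    show (u + 64 * (i % 2) + 128 * (j % 2)) % 64 = u by omega]
  exact congrArg _ (h.zz (by omega) (by omega))

theorem mul_eq (hp : p < 256) (hq : q < 256) (hr : r < 256) :
    tk η p * tk η q = tk η r ↔ mm p q = r := by rw [h.mul hp hq, h.inj (mm_lt hp hq) hr]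

theorem eq_one (hp : p < 256) : tk η p = 1 ↔ p = 0 := by
  rw [← tk_zero (η := η), h.inj hp (by decide)]

theorem sq_iff (hp : p < 256) : tk η p * tk η p = 1 ↔ mm p p = 0 := by
  rw [h.mul hp hp, h.eq_one (mm_lt hp hp)]

theorem cm_iff (hp : p < 256) (hq : q < 256) : Commute (tk η p) (tk η q) ↔ mm p q = mm q p := by
  rw [commute_iff_eq, h.mul hp hq, h.mul hq hp, h.inj (mm_lt hp hq) (mm_lt hq hp)]

theorem inv_eq (hp : p < 256) : (tk η p)⁻¹ = tk η (iv p) :=
  inv_eq_of_mul_eq_one_right (by rw [h.mul hp (iv_lt hp), h.eq_one (mm_lt hp (iv_lt hp))]; exact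
    (by decide +kernel : ∀ p < 256, mm p (iv p) = 0) p hp)

theorem at_inn (hp : p < 256) : AT η (tk η p) (inn p) := fun q hq => by
  rw [cn_iff, h.inv_eq hp, h.mul hp hq, h.mul (mm_lt hp hq) (iv_lt hp), inn, force_eq]

theorem cn_inj (a : Cn η g p q) (b : Cn η g p r) (hq : q < 256) (hr : r < 256) : q = r :=
  (h.inj hq hr).1 (a.conj.symm.trans b.conj)

theorem cenY (hp : p < 256) (e : p % 16 = 0) (hq : q < 256) : Commute (tk η p) (tk η q) :=
  (h.cm_iff hp hq).2 ((by decide +kernel : ∀ p < 256, p % 16 = 0 → ∀ q < 256, mm p q = mm q p)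
    p hp e q hq)

end Ctx

end Cfsg.Agent.ON.He
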