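import Cfsg.Agent.H83.HeE
import Cfsg.Agent.UT5.Model

/-! Standard subgroups `2² · L₃(4)`: the Sylow 2-subgroup. -/

set_option autoImplicit false
set_option maxRecDepth 100000
set_option linter.unusedSectionVars false

namespace Cfsg.Agent.ON.He

open H14 H56 WD Function Subgroup St UT5

def EN : ℕ := (Nat.lor (nat_lit 0x785e47c1f5b86e6fcbf738ce5344d4f03c7b4ed6709c774dd6b0ac5f47d4300c41c07758d669ca75d87665c97518464dc37798e64d435790e46549551044694a55d07441405750d47dcf74982655c576188659c676d8b671cc745816714c545014594656d0b455455610847d4f54902449c277d8f661c87558566dcb75986645c17718c645415710c46d4b5590646148555054494257d0f475cd7418065dc77698a651c476589679ce74d836794e54d03451445650945d475690a4754d5410047aceb4280a52c4b6a8aa5ec7b6689a76cdb4e83a424097a0e86a4a952048664995e0784e439760d846c1b7e8fa6ecbb5685a62c8b5a86a4ac2b728ca7e4f946018564596e0b85a46962088724c94a02872ccb4a82a5ac6b6288a56c5b6e8ba7ecfb4681a4a429720c8624895a0686e4b956058464197e0f84ec3b768da66c9b5e87a6acab5284a42c0b7a8ea764d94e0385e47966098524496a0a87a4e9420086ccb37c8f244c135485248c235886260c83708c2684a1780e040401500404c4315c07064491740d050c434080278ce3688a274cd3648925cc734c83254451440107c4f16c0b0704c160080584614802064c93748d24cc335c87240c035084268ca3788e260481700c0484215806044411540506c4b17c0f058c634882270cc3608827ccf36c8b254c53448125c4714c030744d164090784e1680a05044140000)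 (Nat.shiftLeft (Nat.lor (nat_lit 0xf37b9be6a97a59d374a5795913448d735b93e481705b53d491f47a5b969df77a9ba6b5fd781b06b9fe78db369d775a93a491745a5394b97e58d334b57d581304bbfefa7b9eb7fdfabbae9ff7f83b0e93f4f8fb3e8b72d9735c8771d9b36caf7bdb33cca378dbf3fc8ff3f93b4e83f0f9fb7eabfafb7bdea7f9fbbbeebf7fda338cb37cdaf3bc9b76d8731c9775d8b32cb3fcfafbbebffffa3b8e97f5f8bb2e9bf6f87b1e8370d9f37c8f73d9334ca779dbb3ecab7adb73dc87f1f9bb6e8bf2f97b5ea3f8fbfbfeaffbfb3bceb77ddab3acbb7eda739c9374d8f33c9f77d8330c80f0390b428cf339cb72a4f93b4bd2a8fa3b8be284711943508872198360a0781b03c0ac7b1bc3f0b4fd3a4b92b8fe3a8ba290f4380b029cf738cb32b07c1a0380bc7f1ac3b09475184310987618832088f2398b6284f1394b52acfb3bcbf2a0f83b0bc28c7319c3708070190340a87a1b83e0a4791b43d0bcff3acbb2b0fc3a0b8298f6388b2294f5384b12b87e1a83a0b47d1a43909c7718c330907418030057c5f4b82e7fcff6388e73ccf6f8be5bc6f4781e6749d7b0ec4f43d5304c4340d5f07c6b4ad770dc6bcaf778de43c0f5f87e4fc3f5384e67c9f7b8ee5b46d4701c734cd6f0bc7f4fd6308c5745d4b02c5fc7f4380e77cdf6b8ae7bcef6789e53c4f4f83e6f4bd730cc4741d5b06c4b42d5705c6348d7f0fc63c8f7f8fe4bc2f5)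 (Nat.shiftLeft (nat_lit 0x96f5baebba9af6ba2b8ab2fcb8ab2abeffb86b1aae7b996358a27899a3688a729b23c886719be3f8a2f8b9ab6aaefbb96b5a86f1bbebfa8af2bb2bca9a769a238896759ae3b8be7f986318b27c98a3289ef7ba6b9a92f4baabaabafeb82b0ab6fdb8eb3aa67999e378aa7a99234882709ba3e88e739b63d8aafab92b4aa6f9b9eb7a8ef3bb6bda82f0bbabea92749aa3a89e779a6398b67d98e338ba7e982308adfb799b66a1f8795b5689f27bdbf685f17b1bc6a178595354ad7b59936485715b13c489725bd3f499f67adbb695f57a1b86bdff789b26b1fc785b1695755a138499765ad3b4b17c585314bd7f589324a5f9791b46a9fa79db7681f07b5bd68d) (nat_lit 4096))) (nat_lit 4096)))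

variable {G : Type*} [Group G] [Finite G] {η η' η'' : W →* G} {g n x y k s a b w φ : G}
  {p q r i j : ℕ} {c : ℕ → ℕ}

/-- `g` preserves the two elementary abelian subgroups of order 64 -/
def Ch (η : W →* G) (g : G) : Prop := Commute (g * tk η 65 * g⁻¹) (tk η 65)

/-- the multiplication of the group of order 1024 -/
noncomputable def ms (x y : ℕ) : ℕ := force x fun x => force y fun y =>
  mm (x % 256) (it OM (x / 256 % 2) (it FR (x / 512) (y % 256))) +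
    256 * ((x / 256 + y / 256) % 2) + 512 * ((x / 512 + y / 512) % 2)

/-- the number of a unitriangular matrix -/
noncomputable def enc (E : ℕ) (u : U5) : ℕ := app 10 1024 E (cond u.a12 1 0 + cond u.a13 2 0 +
  cond u.a14 4 0 + cond u.a15 8 0 + cond u.a23 16 0 + cond u.a24 32 0 + cond u.a25 64 0 +
  cond u.a34 128 0 + cond u.a35 256 0 + cond u.a45 512 0)

theorem enc_spec : enc EN 1 = 0 ∧ (∀ a : U5, enc EN (a * x12) = ms (enc EN a) (enc EN x12) ∧
    enc EN (a * x23) = ms (enc EN a) (enc EN x23) ∧ enc EN (a * x34) = ms (enc EN a) (enc EN x34) ∧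
    enc EN (a * x45) = ms (enc EN a) (enc EN x45) ∧ (enc EN a = 0 → a = 1)) ∧
    ∀ c ∈ [65, 195, 4, 12, 256, 512], ∃ a : U5, enc EN a = c := by
  have : (force EN fun E => decide (enc E 1 = 0) && (decide (∀ a : U5,
      allL [x12, x23, x34, x45] (fun x => Nat.beq (enc E (a * x)) (ms (enc E a) (enc E x))) ∧
      (enc E a = 0 → a = 1)) && allL [65, 195, 4, 12, 256, 512] fun c =>
        decide (∃ a : U5, enc E a = c))) = true := by
    decide +kernel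
  simpa only [force_eq, Bool.and_eq_true, decide_eq_true_iff, allL_iff, beq_iff,
    List.forall_mem_cons, List.not_mem_nil, false_imp_iff, implies_true, and_true, and_assoc]
    using this

theorem inn_back (e : St.Inn (cj g η) (g * n * g⁻¹)) : St.Inn η n := by
  have := inn_conj (g := g⁻¹) e
  rwa [show cj g⁻¹ (cj g η) = η from MonoidHom.ext fun w => by simp [cj, mul_assoc],
    show g⁻¹ * (g * n * g⁻¹) * g⁻¹⁻¹ = n by group] at this

theorem two_three (e : g ^ 2 ^ j = 1) (c : Commute (g * g * g) a) : Commute g a := by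
  obtain ⟨m, hm⟩ := exists_pow_eq_self_of_coprime (x := g) (n := 3)
    (((by decide : Nat.Coprime 3 2).pow_right j).coprime_dvd_right (orderOf_dvd_of_pow_eq_one e))
  exact hm ▸ (pow_three' g ▸ c).pow_left m

namespace Ctx

variable (h : Ctx η)
include h

theorem cls (hp : p < 256) (hq : q < 256) (a : mm p p = 0 ∧ p % 16 ≠ 0)
    (b : mm q q = 0 ∧ q % 16 ≠ 0) : Commute (tk η p) (tk η q) ↔ (p % 4 = 0 ↔ q % 4 = 0) :=
  (h.cm_iff hp hq).trans ((by decide +kernel : ∀ p < 256, mm p p = 0 ∧ p % 16 ≠ 0 → ∀ q < 256,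
    mm q q = 0 ∧ q % 16 ≠ 0 → (mm p q = mm q p ↔ (p % 4 = 0 ↔ q % 4 = 0))) p hp a q hq b)

theorem mmI (hg : g ∈ MM η) (hp : p < 256) (a : mm p p = 0 ∧ p % 16 ≠ 0) :
    ∃ r < 256, (mm r r = 0 ∧ r % 16 ≠ 0) ∧ Cn η g p r := by
  obtain ⟨r, l, e⟩ := h.mm_cn hg hp
  refine ⟨r, l, ⟨(h.sq_iff l).1 (by rw [← e.conj, conj_mul, (h.sq_iff hp).2 a.1]; simp),
    fun m => ?_⟩, e⟩
  obtain ⟨u, lu, mu, f⟩ := h.mmY (inv_mem hg) l m
  exact a.2 (h.cn_inj f e.inv lu hp ▸ mu)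

theorem ch_mul (ha : a ∈ MM η) (hb : b ∈ MM η) : Ch η (a * b) ↔ (Ch η a ↔ Ch η b) := by
  have z : mm 65 65 = 0 ∧ 65 % 16 ≠ 0 := by decide +kernel
  obtain ⟨p, lp, p', e1⟩ := h.mmI hb (by decide) z
  obtain ⟨q, lq, q', e2⟩ := h.mmI ha lp p'
  obtain ⟨r, lr, r', e3⟩ := h.mmI ha (by decide) z
  rw [Ch, Ch, Ch, (e2.mul e1).conj, e1.conj, ← comm_conj (g := a) (a := tk η p), e2.conj, e3.conj,
    h.cls lq (by decide) q' z, h.cls lr (by decide) r' z, h.cls lq lr q' r']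
  tauto

theorem ch_cn (hr : r < 256) (e : Cn η g 65 r) : Ch η g ↔ mm r 65 = mm 65 r := by
  rw [Ch, e.conj, h.cm_iff hr (by decide)]

theorem ch_nf (e : NF η g j p i) : Ch η g ↔ i < 6 :=
  (h.ch_cn (cf_lt (by have := e.2.1; omega) (by decide)) (h.nf_at e 65 (by decide))).trans
    ((by decide +kernel : ∀ j < 3, ∀ p < 16, ∀ i < 12,
      (mm (cf j p i 65) 65 = mm 65 (cf j p i 65) ↔ i < 6)) j e.1 p e.2.1 i e.2.2.1)

theorem ch_inv (ha : a ∈ MM η) : Ch η a⁻¹ ↔ Ch η a := by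
  have := h.ch_mul (inv_mem ha) ha
  rw [inv_mul_cancel] at this
  exact this.1 (by simp [Ch])

theorem ch_conj (ha : a ∈ MM η) (hb : b ∈ MM η) : Ch η (a * b * a⁻¹) ↔ Ch η b := by
  rw [h.ch_mul (mul_mem ha hb) (inv_mem ha), h.ch_mul ha hb, h.ch_inv ha]; tauto

theorem nfV (e : NF η g j p i) : ∀ t ∈ VL, Cn η g t (Ak i t) := fun t ht =>
  (by decide +kernel : ∀ j < 3, ∀ p < 16, ∀ i < 12, ∀ t ∈ VL, cf j p i t = Ak i t) j e.1 p e.2.1 i
    e.2.2.1 t ht ▸ h.nf_at e t (VL_lt ht)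

theorem inn_of_ch (m : g ∈ MM η) (c : CV η g) (e : Ch η g) : St.Inn η g := by
  obtain ⟨j, p, i, f⟩ := h.mm_nf m (h.nm_cv c)
  obtain rfl := (by decide +kernel : ∀ i < 6, (∀ t ∈ VL, Ak i t = t) → i = 0) i ((h.ch_nf f).1 e)
    fun t ht => h.cn_inj (h.nfV f t ht) (c t ht) (Ak_lt (VL_lt ht)) (VL_lt ht)
  exact f.inn

theorem ch_of_inn (m : g ∈ MM η) (e : St.Inn η g) : Ch η g := by
  obtain ⟨a, ha, f⟩ := h.mm_md m (h.nm_cv (inn_cv e))
  obtain ⟨v, k, hk, rfl⟩ := e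
  obtain ⟨j, p, f⟩ := h.nf_of (by decide) (act_zero.2 hk) (by simp) ha f
  exact (h.ch_nf f).2 (by decide)

theorem inn_of_four (c : CV η y) (ha : a ∈ η.range) (hb : b ∈ η.range) (a2 : a * a = 1)
    (b2 : b * b = 1) (ab : Commute b a) (ya : Commute y a) (yb : Commute y b) (na : ¬ InK η a)
    (nb : ¬ InK η b) (nab : ¬ InK η (a * b)) : St.Inn η y := by
  obtain ⟨η₁, s, e⟩ := h.norm_inn (inn_of_mem ha) a2 na
  have h1 := h.cj s.cj
  have c1 := h.cv_of_range h1 s.range c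
  have m := md_of_comm (h1.nm_cv c1) ya e
  obtain ⟨j, p, i, f⟩ := h1.nf (h1.nm_cv c1) (by simp) (by simp) m
  obtain ⟨q, hq, rfl⟩ := h1.stabL (s.range ▸ hb) (md_of_comm (nm_of_mem (s.range ▸ hb)) ab e)
  rcases (by decide +kernel : ∀ j < 3, ∀ p < 16, ∀ i < 12, (∀ t ∈ VL, cf j p i t = t) →
    cf j p i 16 % 64 = 16 % 64 → i = 0 ∨ ∀ q < 256, mm q q = 0 → cf j p i q = q →
      q % 64 = 0 ∨ q % 64 = 16 % 64) j f.1 p f.2.1 i f.2.2.1 (h1.fixVL f c1)
    (h1.md_mod (h1.nf_at f 16 (by decide)) m) with rfl | d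
  · exact s.inn.1 f.inn
  · rcases d q hq ((h1.sq_iff hq).1 b2) (h1.fix (h1.nf_at f)
      (cf_lt (by have := f.2.1; omega) hq) hq yb) with d | d
    · exact absurd (s.inK.1 (inK_tk d)) nb
    · have := e.mul (inK_div d)
      rw [← mul_assoc, (e.tk 16).inv_right.eq, inv_mul_cancel_left] at this
      exact absurd (s.inK.1 this) nab

theorem noYK (s : Swp η w) (ip : IP η η') (df : η'.range ≠ (St.cj w η).range) (hp : p < 256)
    (m : p % 16 = 0) (p0 : p ≠ 0) : ¬ InK η' (tk η p) := fun e => by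
  have h' := h.cj ip.cj
  obtain ⟨t, l, mt, f⟩ := h'.K2 ip.symm e (j := 1) (by rw [pow_one, sq, h.t2 m hp])
  have : t ≠ 0 := fun c => p0 ((h.eq_one hp).1 (by rw [f, c, tk_zero]))
  obtain ⟨r, hr, e'⟩ := h.ipY ip (h.hn_of ip (p := t) (by simp; omega) hp m (by
    rw [← f, h.t2 m hp]; exact .one)) (p := 64) (by simp)
  obtain ⟨u, hu, f'⟩ := h.swp1 s r hr
  exact h'.v1 (p := 64) (by simp) (((h.cj (cj_cj w η)).ti η' ((cj_cj w η).symm.trans ip.cj) _ (by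
    rw [e', ← f'.conj, ← tk_cj]; exact inK_tk (VL_mod hu)) (inK_tk rfl)
    (h'.v2 (by simp))).resolve_right df)

theorem fixY (m : y ∈ MM η) (y2 : y * y = 1) : ∃ p < 256, ∃ q < 256, (p % 16 = 0 ∧ q % 16 = 0 ∧
    mm p q % 16 = 0 ∧ p ≠ 0 ∧ q ≠ 0 ∧ mm p q ≠ 0) ∧ Commute y (tk η p) ∧ Commute y (tk η q) := by
  by_cases n : Nm η y
  · obtain ⟨j, p, i, f⟩ := h.mm_nf m n
    have l : p < 256 := by have := f.2.1; omega
    have A := h.nf_at f
    obtain ⟨t, ht, e⟩ := h.fixV n y2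
    obtain ⟨a, ha, e'⟩ := (by decide +kernel : ∀ j < 3, ∀ p < 16, ∀ i < 12,
      cf j p i (cf j p i 96) = 96 → ∃ a ∈ YL, cf j p i a = a) j f.1 p f.2.1 i f.2.2.1
      (h.cn_inj ((A _ (cf_lt l (by decide))).mul (A 96 (by decide))) (y2 ▸ Commute.one_left _)
        (cf_lt l (cf_lt l (by decide))) (by decide))
    exact ⟨t, VL_lt ht, a, YL_lt ha, (by decide +kernel : ∀ t ∈ VL, ∀ a ∈ YL, t % 16 = 0 ∧
      a % 16 = 0 ∧ mm t a % 16 = 0 ∧ t ≠ 0 ∧ a ≠ 0 ∧ mm t a ≠ 0) t ht a ha, e,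
      by have := A a (YL_lt ha); rwa [e'] at this⟩
  · have key : ∀ t ∈ VL, ∃ a ∈ YL, Commute y (tk η (mm t a)) := fun t ht => by
      obtain ⟨a, ha, e⟩ := (h.mm_swp m n).1 t ht
      have e' := e.inv
      rw [inv_eq_of_mul_eq_one_right y2] at e'
      refine ⟨a, ha, mul_inv_eq_iff_eq_mul.1 ?_⟩
      rw [← h.mul (VL_lt ht) (YL_lt ha), ← conj_mul, e.conj, e'.conj,
        (h.cenY (YL_lt ha) (YL_mod ha) (VL_lt ht)).eq]
    obtain ⟨a, ha, e⟩ := key 64 (by simp)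
    obtain ⟨b, hb, f⟩ := key 128 (by simp)
    exact ⟨_, mm_lt (by decide) (YL_lt ha), _, mm_lt (by decide) (YL_lt hb),
      (by decide +kernel : ∀ a ∈ YL, ∀ b ∈ YL, mm 64 a % 16 = 0 ∧ mm 128 b % 16 = 0 ∧
        mm (mm 64 a) (mm 128 b) % 16 = 0 ∧ mm 64 a ≠ 0 ∧ mm 128 b ≠ 0 ∧
        mm (mm 64 a) (mm 128 b) ≠ 0) a ha b hb, e, f⟩

theorem inn_of (s : Swp η w) (c : Cj η η') (t : ∀ s ∈ VL, tk η' s ∈ TT η) (m : y ∈ MM η)
    (y2 : y * y = 1) (e : Ch η y) (v : CV η' y) : St.Inn η' y := by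
  have h' := h.cj c
  have hw := h.cj (cj_cj w η)
  have mw := h.swp_mm s
  by_cases d1 : η'.range = η.range
  · exact inn_of_range d1 (h.inn_of_ch m (h'.cv_of_range h d1.symm v) e)
  by_cases d2 : η'.range = (St.cj w η).range
  · have := inn_conj (g := w) (h.inn_of_ch (g := w⁻¹ * y * w⁻¹⁻¹)
      (mul_mem (mul_mem (inv_mem mw) m) (inv_mem (inv_mem mw))) (fun t ht => by
        have := h'.cv_of_range hw d2.symm v t ht
        rw [tk_cj, ← comm_conj (g := w⁻¹)] at this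
        simpa [mul_assoc] using this) ((h.ch_conj (inv_mem mw) m).2 e))
    exact inn_of_range d2 (by simpa [mul_assoc] using this)
  have ip := h.ip_of_cv c d1 (p := 64) (by simp) (cv_of_mem (t _ (by simp)).1)
  have ip' := hw.ip_of_cv ((cj_cj w η).symm.trans c) d2 (p := 64) (by simp) fun u hu => by
    obtain ⟨a, ha, f⟩ := s.1 u hu
    obtain ⟨r, l, g⟩ := h.mem_T.1 (t 64 (by simp))
    rw [tk_cj, f.conj, g]
    exact (h.cenY (YL_lt ha) (YL_mod ha) l).symm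
  have mem : ∀ p < 256, p % 16 = 0 → tk η p ∈ η'.range := fun p l m => by
    obtain ⟨t, ht, a, ha, rfl⟩ := (by decide +kernel : ∀ p < 256, p % 16 = 0 →
      ∃ t ∈ 0 :: VL, ∃ a ∈ 0 :: YL, mm t a = p) p l m
    rw [← h.mul (by simp at ht; omega) (by simp at ha; omega)]
    refine mul_mem ?_ ?_
    · rcases List.mem_cons.1 ht with rfl | ht
      exacts [tk_zero (η := η) ▸ one_mem _, h'.ip_mem ip.symm ht]
    · rcases List.mem_cons.1 ha with rfl | ha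
      · exact tk_zero (η := η) ▸ one_mem _
      · obtain ⟨u, hu, f⟩ := h.swp1 s a ha
        rw [← f.conj, ← tk_cj]
        exact h'.ip_mem ip'.symm hu
  obtain ⟨p, lp, q, lq, ⟨a1, a2, a3, a4, a5, a6⟩, b1, b2⟩ := h.fixY m y2
  exact h'.inn_of_four v (mem p lp a1) (mem q lq a2) (h.t2 a1 lp) (h.t2 a2 lq) (h.cenY lq a2 lp)
    b1 b2 (h.noYK s ip d2 lp a1 a4) (h.noYK s ip d2 lq a2 a5)
    (h.mul lp lq ▸ h.noYK s ip d2 (mm_lt lp lq) a3 a6)

section
variable (A : AT η w (Om 0)) (B : AT η φ (Ak 3))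
include A

theorem swp0 : Swp η w := by
  obtain ⟨a, b⟩ := (by decide +kernel : (∀ t ∈ VL, Om 0 t ∈ YL) ∧ ∀ t ∈ VL, ∃ a ∈ YL, Om 0 a = t)
  exact ⟨fun t ht => ⟨_, a t ht, A t (VL_lt ht)⟩,
    fun t ht => let ⟨y, hy, e⟩ := b t ht; ⟨y, hy, e ▸ A y (YL_lt hy)⟩⟩

theorem ch0 : Ch η w := (h.ch_cn (Om_lt ..) (A 65 (by decide))).2 (by decide +kernel)

include B

theorem phi : φ ∈ MM η ∧ Nm η φ ∧ Ch η φ :=
  ⟨h.mm_at B fun _ => Ak_lt, h.centV (p := 128) (by simp) (B 128 (by decide)),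
    (h.ch_cn (Ak_lt (by decide)) (B 65 (by decide))).2 (by decide +kernel)⟩

theorem phi_nf (m : g ∈ MM η) (e : NF η g j p i) (n : Nm η g) : ∃ j p i', NF η (φ * g) j p i' ∧
    (i' < 6 ↔ i < 6) ∧ ∀ t ∈ VL, Ak i' t = Ak 3 (Ak i t) := by
  obtain ⟨a, b, c⟩ := h.phi A B
  obtain ⟨j', p', i', f⟩ := h.mm_nf (mul_mem a m) (mul_mem b n)
  refine ⟨j', p', i', f, by rw [← h.ch_nf f, ← h.ch_nf e, h.ch_mul a m]; tauto, fun t ht => ?_⟩
  exact h.cn_inj (h.nfV f t ht) ((B _ (Ak_lt (VL_lt ht))).mul (h.nfV e t ht)) (Ak_lt (VL_lt ht))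
    (Ak_lt (Ak_lt (VL_lt ht)))

theorem exists_x (m : g ∈ MM η) (e : ¬ Ch η g) :
    ∃ x ∈ MM η, CV η x ∧ x * x = 1 ∧ ¬ Ch η x := by
  have s := h.swp0 A
  have mw := h.swp_mm s
  obtain ⟨g, m, e, n⟩ : ∃ g ∈ MM η, ¬ Ch η g ∧ Nm η g := by
    by_cases n : Nm η g
    · exact ⟨g, m, e, n⟩
    · exact ⟨g * w, mul_mem m mw, by rw [h.ch_mul m mw]; simp [e, h.ch0 A],
        h.swp_mul (h.mm_swp m n) s⟩
  obtain ⟨i, hi, x, hx⟩ : ∃ i ∈ [6, 7, 8], ∃ x, Act η i x := by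
    obtain ⟨j, p, i, f⟩ := h.mm_nf m n
    obtain ⟨j', p', i', f', a, b⟩ := h.phi_nf A B m f n
    rw [h.ch_nf f] at e
    rcases (by decide +kernel : ∀ i < 12, ¬ i < 6 → ∀ i' < 12, ¬ i' < 6 →
      (∀ t ∈ VL, Ak i' t = Ak 3 (Ak i t)) → i ∈ [6, 7, 8] ∨ i' ∈ [6, 7, 8]) i f.2.2.1 e i' f'.2.2.1
      (mt a.1 e) b with c | c
    exacts [⟨i, c, f.act⟩, ⟨i', c, f'.act⟩]
  have sq : ∀ {x}, Act η i x → InK η (x * x) := fun hx w => by
    change _ = _
    rw [mul_assoc, hx, ← mul_assoc, hx, aut_gr hi, mul_assoc]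
  obtain ⟨m, n, f⟩ := odd_part x
  replace hx : Act η i (x ^ (2 * m + 1)) := fun w => by
    rw [pow_succ', pow_mul, pow_two, mul_assoc, ((sq hx).pow m w).eq, ← mul_assoc, hx, mul_assoc]
  generalize x ^ (2 * m + 1) = u at hx f
  obtain ⟨t, lt, mt, e'⟩ := h.K2 (h.swp_ip s).1 (sq hx) (j := n) (by
    rw [(Commute.refl u).mul_pow, f, one_mul])
  have C := h.act (by simp at hi; omega) hx
  obtain ⟨v, lv, mv, f1, f2, f3⟩ := (by decide +kernel : ∀ i ∈ [6, 7, 8], ∀ t < 256, t % 64 = 0 →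
    Ak i t = t → ∃ v < 256, v % 16 = 0 ∧ mm (mm v (Ak i v)) t = 0 ∧ (∀ a ∈ YL, Ak i a = a) ∧
      mm (Ak i 65) 65 ≠ mm 65 (Ak i 65)) i hi t lt mt
    (h.fix C (Ak_lt lt) lt (e' ▸ (Commute.refl u).mul_right (.refl u)))
  obtain ⟨D, d2⟩ := h.adj C (fun q => Ak_lt) lv mv lt e' f1
  have md := h.mm_at D fun q => Ak_lt
  refine ⟨_, mul_mem (mul_mem mw md) (inv_mem mw), fun t ht => ?_, by rw [conj_mul, d2]; simp,
    by rwa [h.ch_conj mw md, h.ch_cn (Ak_lt (by decide)) (D 65 (by decide))]⟩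
  obtain ⟨a, ha, e⟩ := s.2 t ht
  exact e.cj e (by have := D a (YL_lt ha); rwa [f2 a ha] at this)

theorem ch_all (hG : commutator G = ⊤) (m : g ∈ MM η) : Ch η g := by
  by_contra e
  have s := h.swp0 A
  obtain ⟨x, m, cv, x2, e⟩ := h.exists_x A B m e
  have px : IsPGroup 2 (zpowers x) := STD.isPGroup_zpowers (k := 1) (by rw [pow_one, sq, x2])
  obtain ⟨S, l, l'⟩ := h.sylow s (px.to_sup_of_normal_right' h.pT (zpowers_le.2 m)) le_sup_right
    (sup_le (zpowers_le.2 m) le_normalizer)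
  have xS : x ∈ (S : Subgroup G) := l (mem_sup_left (mem_zpowers x))
  let T : Subgroup G :=
    { carrier := {g | g ∈ (S : Subgroup G) ∧ Ch η g}
      one_mem' := ⟨one_mem _, by simp [Ch]⟩
      mul_mem' := fun a b => ⟨mul_mem a.1 b.1, (h.ch_mul (l' a.1) (l' b.1)).2 (iff_of_true a.2 b.2)⟩
      inv_mem' := fun a => ⟨inv_mem a.1, (h.ch_inv (l' a.1)).2 a.2⟩ }
  have i2 : (T.subgroupOf S).index = 2 := index_eq_two_iff.2 ⟨⟨x, xS⟩, fun b => by
    have := h.ch_mul (l' b.2) m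
    have e1 : b * ⟨x, xS⟩ ∈ T.subgroupOf S ↔ Ch η (b * x) := ⟨And.right, fun a => ⟨mul_mem b.2 xS, a⟩⟩
    have e2 : b ∈ T.subgroupOf S ↔ Ch η b := ⟨And.right, fun a => ⟨b.2, a⟩⟩
    rw [e1, e2, xor_iff_iff_not]
    tauto⟩
  have := normal_of_index_eq_two i2
  have : Fact (Nat.Prime 2) := ⟨Nat.prime_two⟩
  obtain ⟨g, a, b⟩ := S1853.main hG S T (fun _ a => a.1) (isCyclic_of_prime_card i2) x
    (orderOf_eq_prime (by rw [sq, x2]) fun c => e (by simp [c, Ch])) xS (fun a => e a.2)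
    (TT η ⊓ centralizer {x}) h.pT.to_inf_left inf_le_right
  exact e (h.ch_of_inn m (inn_back (h.inn_of s (cj_cj g η) (h.wc (cj_cj g η) fun t ht => l' (by
    rw [tk_cj]
    exact b _ ⟨h.tkT (VL_lt ht), mem_centralizer_singleton_iff.2 (cv t ht).symm⟩)) (l' a.1)
    (by rw [conj_mul, x2]; simp) a.2 fun t ht => tk_cj (η := η) g t ▸ comm_conj.2 (cv t ht))))

end

theorem sylow_iso (s : Swp η w) (hG : commutator G = ⊤) :
    ∃ S : Sylow 2 G, Nonempty ((S : Subgroup G) ≃* U5) := by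
  obtain ⟨w, φ, A, B, w2, φ2, c⟩ := h.exists_pair s
  replace s := h.swp0 A
  have mw := h.swp_mm s
  obtain ⟨mφ, nφ, -⟩ := h.phi A B
  let F : ℕ → G := fun x => tk η (x % 256) * (w ^ (x / 256 % 2) * φ ^ (x / 512))
  have C : ∀ a b, AT η (w ^ a * φ ^ b) fun q => it OM a (it FR b q) := fun a b =>
    (AT.pow (X := OM) A a).mul (AT.pow (X := FR) B b) fun q => it_lt
  have hm : ∀ x y, F (ms x y) = F x * F y := fun x y => by
    have l1 : x % 256 < 256 := by omega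
    have l2 : y % 256 < 256 := by omega
    have l := mm_lt l1 (it_lt (X := OM) (j := x / 256 % 2) (it_lt (X := FR) (j := x / 512) l2))
    simp only [F]
    rw [mul_assoc (tk η (x % 256)), ← mul_assoc (_ * _ : G) (tk η _), C _ _ _ l2,
      mul_assoc (tk η _), ← mul_assoc (tk η (x % 256)), h.mul l1 (it_lt (it_lt l2)),
      (c.pow_pow _ _).symm.mul_mul_mul_comm, ← pow_add, ← pow_add,
      pow_eq_pow_mod (_ + _) (sq w ▸ w2), pow_eq_pow_mod (_ + _) (sq φ ▸ φ2), ms, force_eq, force_eq]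
    congr 3 <;> omega
  obtain ⟨e0, e1, e2⟩ := enc_spec
  let f : U5 →* G := homOf (fun u => F (enc EN u)) (by simp [F, e0, tk_zero]) fun a => by
    simp only [← hm, e1 a, and_self]
  have hf : Injective f := (injective_iff_map_eq_one f).2 fun a (e : F (enc EN a) = 1) => by
    have l : enc EN a < 1024 := Nat.mod_lt _ (by decide)
    refine (e1 a).2.2.2.2 ?_
    generalize enc EN a = x at e l
    have l1 : x % 256 < 256 := by omega
    have := (by decide +kernel : ∀ a < 2, ∀ b < 2, (∀ t ∈ VL, it OM a (it FR b t) = t) →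
      a = 0 ∧ b = 0) (x / 256 % 2) (by omega) (x / 512) (by omega) fun t ht =>
      h.fix (C _ _) (it_lt (it_lt (VL_lt ht))) (VL_lt ht) (by
        rw [eq_inv_of_mul_eq_one_right e]; exact (cv_of_mem (tk_mem _) t ht).inv_left)
    simp only [F, this.1, this.2, pow_zero, mul_one, h.eq_one l1] at e
    omega
  have key : ∀ x ∈ [65, 195, 4, 12, 256, 512], F x ∈ f.range := fun x hx =>
    let ⟨a, e⟩ := e2 x hx; ⟨a, congrArg F e⟩
  have lT : TT η ≤ f.range := fun g hg => by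
    obtain ⟨p, hp, rfl⟩ := h.mem_T.1 hg
    refine gen_ind (P := fun p => tk η p ∈ f.range) (tk_zero (η := η) ▸ one_mem _)
      (fun a ha q hq e => h.mul (GS_lt ha) hq ▸ mul_mem ?_ e) p hp
    have := key a (List.mem_append_left [256, 512] ha)
    simpa [F, Nat.mod_eq_of_lt (GS_lt ha), Nat.div_eq_of_lt (GS_lt ha),
      Nat.div_eq_of_lt ((GS_lt ha).trans (by decide : 256 < 512))] using this
  have lw : w ∈ f.range := by simpa [F, tk_zero] using key 256 (by simp)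
  have lφ : φ ∈ f.range := by simpa [F, tk_zero] using key 512 (by simp)
  obtain ⟨S, l, l'⟩ := h.sylow s ((IsPGroup.of_card (n := 10) U5.card_eq).of_surjective _
    f.rangeRestrict_surjective) lT (by
      rintro _ ⟨a, rfl⟩
      exact mul_mem (le_normalizer (h.tkT (Nat.mod_lt _ (by decide))))
        (mul_mem (pow_mem mw _) (pow_mem mφ _)))
  have p2 : ∀ g ∈ (S : Subgroup G), ∃ j, g ^ 2 ^ j = 1 := fun g hg =>
    (S.isPGroup' ⟨g, hg⟩).imp fun j e => congrArg Subtype.val e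
  have k1 : ∀ g ∈ (S : Subgroup G), ∀ j p, ∀ i < 3, NF η g j p i → g ∈ f.range :=
    fun g hg j p i hi e => by
    have lp : p < 256 := by have := e.2.1; omega
    have D := h.nf_at e
    obtain ⟨n, hn⟩ := p2 g hg
    obtain ⟨a, b⟩ := (by decide +kernel : ∀ j < 3, ∀ p < 16, ∀ i < 3,
      (∀ a ∈ [64, 16], cf j p i (cf j p i (cf j p i a)) = a) ∧
        ((∀ a ∈ [64, 16], cf j p i a = a) → j = 0 ∧ i = 0)) j e.1 p e.2.1 i hi
    obtain ⟨rfl, rfl⟩ := b fun y hy => by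
      have ly : y < 256 := by simp at hy; omega
      have := ((D _ (cf_lt lp (cf_lt lp ly))).mul (D _ (cf_lt lp ly))).mul (D y ly)
      rw [a y hy] at this
      exact h.fix D (cf_lt lp ly) ly (two_three hn this)
    obtain ⟨q, hq, k, hk, rfl⟩ := h.nf_tk e
    obtain ⟨n, hn⟩ := p2 k ((mul_mem_cancel_left (l (lT (h.tkT hq)))).1 hg)
    obtain ⟨t, lt, -, rfl⟩ := h.K2 (h.swp_ip s).1 hk hn
    exact lT (mul_mem (h.tkT hq) (h.tkT lt))
  have k2 : ∀ g ∈ (S : Subgroup G), Nm η g → g ∈ f.range := fun g hg n => by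
    obtain ⟨j, p, i, e⟩ := h.mm_nf (l' hg) n
    obtain ⟨j', p', i', e', a, b⟩ := h.phi_nf A B (l' hg) e n
    have hi := (h.ch_nf e).1 (h.ch_all A B hG (l' hg))
    rcases (by decide +kernel : ∀ i < 6, ∀ i' < 6, (∀ t ∈ VL, Ak i' t = Ak 3 (Ak i t)) →
      i < 3 ∨ i' < 3) i hi i' (a.2 hi) b with d | d
    · exact k1 g hg j p i d e
    · exact (mul_mem_cancel_left lφ).1 (k1 _ (mul_mem (l lφ) hg) j' p' i' d e')
  exact ⟨S, ⟨(MulEquiv.subgroupCongr (le_antisymm (fun g hg => by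
    by_cases n : Nm η g
    · exact k2 g hg n
    · exact (mul_mem_cancel_right lw).1 (k2 _ (mul_mem hg (l lw))
        (h.swp_mul (h.mm_swp (l' hg) n) s))) l)).trans (MonoidHom.ofInjective hf).symm⟩⟩

end Ctx

end Cfsg.Agent.ON.He
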