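/-
An involution `J` with `C(J) = ⟨J⟩ × T`.
-/
import Cfsg.Agent.H83.AltInv
import Cfsg.Agent.H18.Transfer2
import Cfsg.Agent.JR.Basic
import Cfsg.Prelude.Def_TwoFusion

set_option autoImplicit false

namespace Cfsg.Agent.H83

open Subgroup Cfsg Cfsg.Agent.H49 Cfsg.Agent.JR
open scoped commutatorElement

universe u

variable {G : Type u} [Group G] [Finite G] {J : G} {T : Subgroup G}

section

variable (oJ : orderOf J = 2) (hd : IsInternalDirectProduct (zpowers J) T 𝒞[J])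
include oJ hd

theorem dp_notMem : J ∉ T := fun h => by
  have : J ∈ zpowers J ⊓ T := ⟨mem_zpowers J, h⟩
  rw [hd.2.2.2.1, mem_bot] at this
  exact ne_one_of_two oJ this

omit [Finite G] oJ in
theorem dp_norm : zpowers J ≤ 𝒩(T) :=
  (le_cent1_iff.1 hd.2.1 |> zpowers_le.2).trans (cent_le_norm T)

theorem dp_cases {x : G} (hx : x ∈ 𝒞[J]) : x ∈ T ∨ J * x ∈ T := by
  rw [← hd.2.2.2.2, mem_sup_of_norm_right (dp_norm hd)] at hx
  obtain ⟨a, ha, b, hb, rfl⟩ := hx
  rcases (mem_zpowers_two oJ).1 ha with rfl | rfl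
  · left; rwa [one_mul]
  · right; rwa [← mul_assoc, mul_self_of_two oJ, one_mul]

theorem dp_card : Nat.card 𝒞[J] = 2 * Nat.card T := by
  rw [← hd.2.2.2.2, card_sup_of_disjoint (Or.inl (dp_norm hd)) hd.2.2.2.1, Nat.card_zpowers, oJ]

theorem dp_relIndex : T.relIndex 𝒞[J] = 2 := by
  have := card_mul_relIndex hd.2.1
  rw [dp_card oJ hd, mul_comm] at this
  exact Nat.eq_of_mul_eq_mul_right (card_pos' T) this

theorem dp_commutator : ⁅𝒞[J], 𝒞[J]⁆ ≤ T := by
  rw [commutator_le]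
  intro x hx y hy
  have h := @mul_mem_iff_of_index_two _ _ _ (dp_relIndex oJ hd)
  have h1 := @h (⟨x, hx⟩ * ⟨y, hy⟩) (⟨y, hy⟩ * ⟨x, hx⟩)⁻¹
  have h2 := mem_subgroupOf.1 (h1.2 (by rw [inv_mem_iff, h, h]; exact iff_comm))
  simpa [commutatorElement_def, mul_assoc] using h2

theorem dp_transfer (ho : Odd (𝒞[J]).index) :
    (∃ M : Subgroup G, M.Normal ∧ M.index = 2 ∧ J ∉ M) ∨ ∃ g : G, g * J * g⁻¹ ∈ T := by
  by_contra h
  rw [not_or, not_exists, not_exists] at h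
  obtain ⟨M, h1, h2, h3, -⟩ := H18.exists_index_two (n := 1) ho (dp_relIndex oJ hd) (u := J)
    (by rw [pow_one, pow_two, mul_self_of_two oJ]) h.2
    (fun k g _ => by simp [mul_self_of_two oJ])
  exact h.1 M ⟨h1, h2, h3⟩

/-- an involution of `T` in the derived group of its centralizer in `T` is not conjugate to `J` -/
theorem dp_not_conj {g : G}
    (h : g * J * g⁻¹ ∈ ⁅T ⊓ 𝒞[g * J * g⁻¹], T ⊓ 𝒞[g * J * g⁻¹]⁆) : False := by
  have h1 := commutator_mono inf_le_right inf_le_right h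
  rw [← cj_cent1, ← cj_commutator, conj_mem_cj] at h1
  exact dp_notMem oJ hd (dp_commutator oJ hd h1)

theorem dp_alt {α : Type*} [Fintype α] [DecidableEq α] (h6 : 6 ≤ Fintype.card α)
    (e : T ≃* alternatingGroup α) (g : G) : g * J * g⁻¹ ∉ T := by
  intro hg
  refine dp_not_conj oJ hd (g := g) ?_
  set s := g * J * g⁻¹ with hs
  let ψ : alternatingGroup α →* G := T.subtype.comp e.symm.toMonoidHom
  set a := e ⟨s, hg⟩ with ha
  have e1 : ψ a = s := by simp [ψ, ha]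
  have h1 : (a : Equiv.Perm α) * a = 1 := by
    have : (⟨s, hg⟩ : T) * ⟨s, hg⟩ = 1 := Subtype.ext (by
      simp only [coe_mul, hs, conj_mul, mul_self_of_two oJ]; simp)
    rw [← coe_mul, ha, ← map_mul, this, map_one, coe_one]
  have h2 := alt_mem_commutator h6 h1 a.2
  have h3 : alternatingGroup α ⊓ 𝒞[(a : Equiv.Perm α)] =
      (𝒞[a]).map (alternatingGroup α).subtype := by
    ext x
    constructor
    · intro hx
      exact ⟨⟨x, hx.1⟩, mem_cent1.2 (Subtype.ext (mem_cent1.1 hx.2)), rfl⟩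
    · rintro ⟨y, hy, rfl⟩
      exact ⟨y.2, mem_cent1.2 (congrArg Subtype.val (mem_cent1.1 hy))⟩
  rw [h3, ← map_commutator] at h2
  obtain ⟨y, hy, ey⟩ := h2
  obtain rfl : y = a := Subtype.ext ey
  have h4 : (𝒞[a]).map ψ ≤ T ⊓ 𝒞[s] := by
    rintro _ ⟨x, hx, rfl⟩
    refine ⟨(e.symm x).2, mem_cent1.2 ?_⟩
    rw [← e1, ← map_mul, ← map_mul, mem_cent1.1 hx]
  refine commutator_mono h4 h4 ?_
  rw [← map_commutator, ← e1]
  exact mem_map_of_mem _ hy

end

theorem odd_index_cent {P : Sylow 2 G} (h : ∀ x ∈ P, x * J = J * x) : Odd (𝒞[J]).index :=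
  (H18.odd_index_sylow P).of_dvd_nat (index_dvd_of_le fun x hx => mem_cent1.2 (h x hx))

end Cfsg.Agent.H83
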