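/-
A 2-central involution whose weak closure in its centralizer is `Z₂ × A₅`: fusion.
-/
import Cfsg.Agent.JR.Two
import Cfsg.Agent.H51.GoldC
import Cfsg.Agent.GOLD.Basic
import Cfsg.Agent.H21.AbPsl

set_option autoImplicit false

namespace Cfsg.Agent.H83

open Subgroup Cfsg Cfsg.Agent.H49 Cfsg.Agent.JR

universe u

abbrev A5 := alternatingGroup (Fin 5)

abbrev M5 := Multiplicative (ZMod 2) × A5

def v5 : A5 := ⟨Equiv.swap 0 1 * Equiv.swap 2 3, Equiv.Perm.mem_alternatingGroup.2 (by decide)⟩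

def w5 : A5 := ⟨Equiv.swap 0 1 * Equiv.swap 2 4, Equiv.Perm.mem_alternatingGroup.2 (by decide)⟩

def z5 : M5 := (Multiplicative.ofAdd 1, 1)

theorem a5_inv : ∀ a : A5, a * a = 1 → a = 1 ∨ ∃ y : A5, y * a * y⁻¹ = v5 := by decide +kernel

theorem a5_ord : ∀ a : A5, a * a = 1 ∨ a ^ 15 = 1 := by decide +kernel

theorem card_M5 : Nat.card M5 = 120 := by
  rw [Nat.card_prod, nat_card_alternatingGroup]
  simp [Nat.factorial]

theorem m5_fst (x : M5) (h : x.2 = 1) : x = 1 ∨ x = z5 := by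
  obtain ⟨a, b⟩ := x
  obtain rfl : b = 1 := h
  revert a
  decide

theorem m5_center {x : M5} (h : ∀ y, y * x = x * y) : x = 1 ∨ x = z5 := by
  refine m5_fst x ?_
  have : x.2 ∈ center A5 := mem_center_iff.2 fun g => congrArg Prod.snd (h (1, g))
  rwa [alternatingGroup.center_eq_bot (by simp), mem_bot] at this

theorem m5_sq {x : M5} {k : ℕ} (h : x ^ 2 ^ k = 1) : x * x = 1 := by
  have h1 : x.1 * x.1 = 1 := by generalize x.1 = a; revert a; decide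
  refine Prod.ext h1 ((a5_ord x.2).elim id fun h2 => ?_)
  have h3 : x.2 ^ 2 ^ k = 1 := congrArg Prod.snd h
  have h4 := (pow_eq_one_iff_of_coprime (Nat.Coprime.pow_right k (by norm_num))).1 ⟨h2, h3⟩
  change x.2 * x.2 = 1
  rw [h4, one_mul]

theorem m5_conj {x y : M5} (hx : x * x = 1) (hy : y * y = 1) (x1 : x ≠ 1) (x2 : x ≠ z5)
    (y1 : y ≠ 1) (y2 : y ≠ z5) : ∃ w, w * x * w⁻¹ = y ∨ w * x * w⁻¹ = z5 * y := by
  obtain ⟨a, ha⟩ := (a5_inv x.2 (congrArg Prod.snd hx)).resolve_left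
    fun h => (m5_fst x h).elim x1 x2
  obtain ⟨b, hb⟩ := (a5_inv y.2 (congrArg Prod.snd hy)).resolve_left
    fun h => (m5_fst y h).elim y1 y2
  have h2 : b⁻¹ * a * x.2 * (b⁻¹ * a)⁻¹ = y.2 := by
    rw [show b⁻¹ * a * x.2 * (b⁻¹ * a)⁻¹ = b⁻¹ * (a * x.2 * a⁻¹) * b by group, ha, ← hb]; group
  have h1 : x.1 = y.1 ∨ x.1 = Multiplicative.ofAdd 1 * y.1 := by
    generalize x.1 = c; generalize y.1 = d; revert c d; decide
  refine ⟨(1, b⁻¹ * a), h1.imp (fun h => Prod.ext (by simpa using h) h2)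
    fun h => Prod.ext (by simpa [z5] using h) (by simpa [z5] using h2)⟩

theorem m5_odd {N : Subgroup M5} (hN : N.Normal) (ho : Odd (Nat.card N)) : N = ⊥ := by
  have h1 := hN.map (MonoidHom.snd _ _) Prod.snd_surjective
  rcases h1.eq_bot_or_eq_top with h | h
  · rw [eq_bot_iff]
    intro x hx
    have h2 : x.2 = 1 := mem_bot.1 (h ▸ mem_map_of_mem (MonoidHom.snd _ _) hx)
    rcases m5_fst x h2 with rfl | rfl
    · exact one_mem _
    · exact absurd hx (not_mem_odd (orderOf_eq_prime (by decide) (by decide)) ho)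
  · have := ho.of_dvd_nat (card_map_dvd N (MonoidHom.snd _ _))
    rw [h, card_top, nat_card_alternatingGroup] at this
    simp only [Nat.card_eq_fintype_card, Fintype.card_fin] at this
    exact absurd this (by decide)

variable {G : Type u} [Group G]

/-- the weak closure of `t` in its centralizer -/
def Wk (t : G) : Subgroup G := closure {x : G | ∃ g : G, x = g * t * g⁻¹ ∧ x * t = t * x}

theorem conj_mem_Wk {t g : G} (h : g * t * g⁻¹ ∈ 𝒞[t]) : g * t * g⁻¹ ∈ Wk t :=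
  subset_closure ⟨g, rfl, mem_cent1.1 h⟩

theorem Wk_le (t : G) : Wk t ≤ 𝒞[t] := (closure_le _).2 fun _ ⟨_, _, h⟩ => mem_cent1.2 h

theorem self_mem_Wk (t : G) : t ∈ Wk t := subset_closure ⟨1, by simp, rfl⟩

theorem Wk_le_closure (t : G) : Wk t ≤ normalClosure {t} := by
  refine (closure_le _).2 ?_
  rintro _ ⟨g, rfl, -⟩
  exact (normalClosure_normal (s := {t})).conj_mem t (subset_normalClosure rfl) g

theorem norm_Wk [Finite G] (t : G) : 𝒞[t] ≤ 𝒩(Wk t) := by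
  intro c hc
  refine mem_norm_of_cj_le ?_
  rw [Wk, cj_def, MonoidHom.map_closure]
  refine closure_mono ?_
  rintro _ ⟨x, ⟨g, rfl, h⟩, rfl⟩
  refine ⟨c * g, by simp [mul_assoc], ?_⟩
  exact mem_cent1.1 (mul_mem (mul_mem hc (mem_cent1.2 h)) (inv_mem hc))

structure WH (t : G) (S : Subgroup G) (ψ : M5 →* G) : Prop where
  ot : orderOf t = 2
  syl : IsSylowOf 2 S ⊤
  tS : t ∈ S
  le : S ≤ 𝒞[t]
  inj : Function.Injective ψ
  range : ψ.range = Wk t

namespace WH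

variable [Finite G] {t : G} {S : Subgroup G} {ψ : M5 →* G} (h : WH t S ψ)
include h

theorem mem (x : M5) : ψ x ∈ Wk t := h.range ▸ ⟨x, rfl⟩

theorem exists_eq {x : G} (hx : x ∈ Wk t) : ∃ y, ψ y = x := by rwa [← h.range] at hx

theorem z_eq : ψ z5 = t := by
  obtain ⟨y, hy⟩ := h.exists_eq (self_mem_Wk t)
  rcases m5_center (x := y) (fun x => h.inj (by
    rw [map_mul, map_mul, hy]; exact mem_cent1.1 (Wk_le t (h.mem x)))) with rfl | rfl
  · exact absurd (hy.symm.trans (map_one ψ)) (ne_one_of_two h.ot)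
  · exact hy

theorem card_W : Nat.card (Wk t) = 120 := by
  rw [← h.range, ← card_M5]
  exact Nat.card_congr (MonoidHom.ofInjective h.inj).toEquiv.symm

theorem sylA : IsSylowOf 2 (S ⊓ Wk t) (Wk t) :=
  (h.syl.sub h.le le_top).inf_normal (Wk_le t) (norm_Wk t)

theorem card_A : Nat.card ↥(S ⊓ Wk t) = 8 := by
  obtain ⟨Q, hQ⟩ := exists_sylow_of Nat.prime_two h.sylA
  rw [← hQ, card_map_of_injective (subtype_injective _)]
  refine H21.card_sylow_eq_of_dvd (k := 3) Q (by rw [h.card_W]; norm_num) fun hd => ?_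
  have := hd.trans (card_subgroup_dvd_card _)
  rw [h.card_W] at this
  norm_num at this

theorem pA : IsPGroup 2 ↥(S ⊓ Wk t) := (isPi_singleton_iff Nat.prime_two).1 h.sylA.pi

theorem sq {x : G} (hx : x ∈ S ⊓ Wk t) : x * x = 1 := by
  obtain ⟨y, rfl⟩ := h.exists_eq hx.2
  obtain ⟨k, hk⟩ := h.pA ⟨_, hx⟩
  have : y ^ 2 ^ k = 1 := h.inj (by rw [map_pow, map_one]; exact congrArg Subtype.val hk)
  rw [← map_mul, m5_sq this, map_one]

theorem comm {x y : G} (hx : x ∈ S ⊓ Wk t) (hy : y ∈ S ⊓ Wk t) : x * y = y * x := by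
  have := h.sq (mul_mem hx hy)
  rw [← inv_eq_of_mul_eq_one_right this, mul_inv_rev, inv_eq_of_mul_eq_one_right (h.sq hx),
    inv_eq_of_mul_eq_one_right (h.sq hy)]

theorem abA : IsMulCommutative ↥(S ⊓ Wk t) := ⟨⟨fun x y => Subtype.ext (h.comm x.2 y.2)⟩⟩

theorem tA : t ∈ S ⊓ Wk t := ⟨h.tS, self_mem_Wk t⟩

theorem conj_W {x y : G} (hx : x ∈ Wk t) (hy : y ∈ Wk t) (x0 : x * x = 1) (y0 : y * y = 1)
    (x1 : x ≠ 1) (x2 : x ≠ t) (y1 : y ≠ 1) (y2 : y ≠ t) :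
    ∃ w : G, w * x * w⁻¹ = y ∨ w * x * w⁻¹ = t * y := by
  obtain ⟨a, rfl⟩ := h.exists_eq hx
  obtain ⟨b, rfl⟩ := h.exists_eq hy
  obtain ⟨w, hw⟩ := m5_conj (x := a) (y := b) (h.inj (by rw [map_mul, x0, map_one]))
    (h.inj (by rw [map_mul, y0, map_one])) (fun e => x1 (by rw [e, map_one]))
    (fun e => x2 (by rw [e, h.z_eq])) (fun e => y1 (by rw [e, map_one]))
    (fun e => y2 (by rw [e, h.z_eq]))
  refine ⟨ψ w, hw.imp (fun e => ?_) fun e => ?_⟩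
  · rw [← e, map_mul, map_mul, map_inv]
  · rw [← h.z_eq, ← map_mul ψ z5, ← e, map_mul, map_mul, map_inv]

theorem or_conj {a : G} (ha : a ∈ S ⊓ Wk t) :
    (∃ g : G, a = g * t * g⁻¹) ∨ ∃ g : G, t * a = g * t * g⁻¹ := by
  by_cases a1 : a = 1
  · exact Or.inr ⟨1, by simp [a1]⟩
  by_cases a2 : a = t
  · exact Or.inl ⟨1, by simp [a2]⟩
  obtain ⟨g, g1, g2⟩ : ∃ g : G, g * t * g⁻¹ ∈ 𝒞[t] ∧ g * t * g⁻¹ ≠ t := by
    by_contra hn
    push Not at hn
    have h1 : Wk t ≤ zpowers t := (closure_le _).2 fun _ ⟨g, e, c⟩ => by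
      rw [e] at c ⊢
      rw [hn g (mem_cent1.2 c)]
      exact mem_zpowers t
    have := card_le_of_le h1
    rw [h.card_W, Nat.card_zpowers, h.ot] at this
    omega
  have o := (orderOf_cj g t).trans h.ot
  obtain ⟨w, e | e⟩ := h.conj_W (conj_mem_Wk g1) ha.2 (mul_self_of_two o) (h.sq ha)
    (ne_one_of_two o) g2 a1 a2
  · exact Or.inl ⟨w * g, by rw [← e]; group⟩
  · exact Or.inr ⟨w * g, by rw [← e]; group⟩

theorem exists_norm {g : G} (hg : g * t * g⁻¹ ∈ S ⊓ Wk t) :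
    ∃ n ∈ 𝒩(S ⊓ Wk t), g * t * g⁻¹ = n * t * n⁻¹ := by
  have key : ∀ k : G, k * t * k⁻¹ ∈ S ⊓ Wk t → g⁻¹ * (k * t * k⁻¹) * g⁻¹⁻¹ ∈ Wk t := by
    intro k hk
    rw [show g⁻¹ * (k * t * k⁻¹) * g⁻¹⁻¹ = g⁻¹ * k * t * (g⁻¹ * k)⁻¹ by group]
    refine conj_mem_Wk (mem_cent1.2 ?_)
    have := h.comm hk hg
    calc g⁻¹ * k * t * (g⁻¹ * k)⁻¹ * t = g⁻¹ * (k * t * k⁻¹ * (g * t * g⁻¹)) * g := by group
      _ = _ := by rw [this]; group
  have h1 : cj g⁻¹ (S ⊓ Wk t) ≤ Wk t := by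
    intro x hx
    obtain ⟨a, ha, rfl⟩ := mem_cj'.1 hx
    rcases h.or_conj ha with ⟨k, rfl⟩ | ⟨k, e⟩
    · exact key k ha
    · have h2 := mul_mem (key 1 (by simpa using h.tA)) (key k (e ▸ mul_mem h.tA ha))
      rwa [← e, conj_mul, one_mul, inv_one, mul_one, ← mul_assoc t, mul_self_of_two h.ot,
        one_mul] at h2
  obtain ⟨w, hw, e⟩ := sylowOf_conj (h.sylA.of_card_le h1 (h.sylA.pi.cj _) (card_cj _ _).ge) h.sylA
  rw [cj_cj] at e
  refine ⟨(w * g⁻¹)⁻¹, inv_mem (mem_norm_iff_cj.2 e), ?_⟩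
  have := mem_cent1.1 (Wk_le t hw)
  calc g * t * g⁻¹ = g * (w⁻¹ * (w * t)) * g⁻¹ := by group
    _ = _ := by rw [this]; group

theorem all_conj {a : G} (ha : a ∈ S ⊓ Wk t) (a1 : a ≠ 1) :
    ∃ n ∈ 𝒩(S ⊓ Wk t), a = n * t * n⁻¹ := by
  set A := S ⊓ Wk t with hA
  set X : Set G := {y | ∃ n ∈ 𝒩(A), y = n * t * n⁻¹} with hX
  have XA : ∀ x ∈ X, x ∈ A := by
    rintro _ ⟨n, hn, rfl⟩
    exact conj_mem_of_mem_norm hn h.tA
  have mX : ∀ x ∈ A, ∀ g : G, x = g * t * g⁻¹ → x ∈ X := by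
    rintro _ hx g rfl
    exact h.exists_norm hx
  have X1 : (1 : G) ∉ X := by
    rintro ⟨n, -, e⟩
    exact ne_one_of_two h.ot (by simpa using e.symm)
  have ho : Odd X.ncard := by
    rw [hX, ncard_conj]
    have SN : S ≤ 𝒩(A) := norm_inf le_normalizer (h.le.trans (norm_Wk t))
    exact Nat.odd_iff.2 (Nat.two_dvd_ne_zero.1
      ((isPiNat_compl_singleton Nat.prime_two).1 ((h.syl.sub SN le_top).index_of_le h.le)))
  by_contra hn
  have a2 : a ≠ t := fun e => hn ⟨1, one_mem _, by simp [e]⟩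
  have tt : ∀ x : G, t * (t * x) = x := fun x => by rw [← mul_assoc, mul_self_of_two h.ot, one_mul]
  have hd : Disjoint X ((fun x => t * x) '' X) := by
    rw [Set.disjoint_left]
    rintro _ h1 ⟨x, h2, rfl⟩
    have x1 : x ≠ 1 := fun e => X1 (e ▸ h2)
    have x2 : x ≠ t := fun e => X1 (by simpa [e, mul_self_of_two h.ot] using h1)
    obtain ⟨w, e | e⟩ := h.conj_W ha.2 (XA x h2).2 (h.sq ha) (h.sq (XA x h2)) a1 a2 x1 x2
    · obtain ⟨n, -, e'⟩ := h2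
      refine hn (mX a ha (w⁻¹ * n) ?_)
      rw [show w⁻¹ * n * t * (w⁻¹ * n)⁻¹ = w⁻¹ * (n * t * n⁻¹) * w by group, ← e', ← e]; group
    · obtain ⟨n, -, e'⟩ := h1
      refine hn (mX a ha (w⁻¹ * n) ?_)
      rw [show w⁻¹ * n * t * (w⁻¹ * n)⁻¹ = w⁻¹ * (n * t * n⁻¹) * w by group, ← e']
      simp only [← e]; group
  have hu : (A : Set G) = X ∪ (fun x => t * x) '' X := by
    ext x
    constructor
    · intro hx
      rcases h.or_conj hx with ⟨g, e⟩ | ⟨g, e⟩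
      · exact Or.inl (mX x hx g e)
      · exact Or.inr ⟨t * x, mX _ (mul_mem h.tA hx) g e, tt x⟩
    · rintro (hx | ⟨x, hx, rfl⟩)
      · exact XA x hx
      · exact mul_mem h.tA (XA x hx)
  have hc : (A : Set G).ncard = 8 := h.card_A
  rw [hu, Set.ncard_union_eq hd, Set.ncard_image_of_injective _ (mul_right_injective t)] at hc
  obtain ⟨k, hk⟩ := ho
  omega

theorem sc : GOLD.SC ⊤ (S ⊓ Wk t) := by
  refine GOLD.sc_of_sylow h.syl inf_le_left fun x hx g _ hg => ?_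
  by_cases x1 : x = 1
  · simp [x1]
  obtain ⟨n, -, rfl⟩ := h.all_conj hx x1
  refine ⟨hg, ?_⟩
  have := h.le hg
  rw [show g * (n * t * n⁻¹) * g⁻¹ = g * n * t * (g * n)⁻¹ by group] at this ⊢
  exact conj_mem_Wk this

theorem ea : GOLD.EA (S ⊓ Wk t) := ⟨h.abA, fun x hx => by rw [pow_two]; exact h.sq hx⟩

theorem closure_eq : normalClosure ((S ⊓ Wk t : Subgroup G) : Set G) = normalClosure {t} :=
  le_antisymm (normalClosure_le_normal fun _ hx => Wk_le_closure t hx.2)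
    (normalClosure_mono (Set.singleton_subset_iff.2 h.tA))

theorem inf_eq_bot {N : Subgroup G} (hn : Wk t ≤ 𝒩(N)) (ho : Odd (Nat.card N)) :
    Wk t ⊓ N = ⊥ := by
  have h1 : (N.comap ψ).Normal := ⟨fun x hx g => by
    rw [mem_comap, map_mul, map_mul, map_inv]
    exact conj_mem_of_mem_norm (hn (h.mem g)) hx⟩
  have h2 := m5_odd h1 (ho.of_dvd_nat (card_comap_dvd_of_injective N ψ h.inj))
  rw [eq_bot_iff]
  intro x hx
  obtain ⟨y, rfl⟩ := h.exists_eq hx.1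
  have : y ∈ N.comap ψ := hx.2
  rw [h2, mem_bot] at this
  simp [this]

end WH

end Cfsg.Agent.H83
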